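import Mathlib
import Cfsg.Agent.Lib.CharTheory.Burnside
import Cfsg.Agent.Lib.Involutions

/-!
Finite groups in which elements of equal order are conjugate under automorphisms: centralisers of elements of prime
order, and Burnside's class size obstruction.
-/

set_option autoImplicit false
set_option linter.unusedSectionVars false

namespace CfsgLib.FiveOrbits

open Subgroup

universe u

/-- Elements of equal order are carried to one another by automorphisms. -/
def OrdConj (G : Type u) [Group G] : Prop :=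
  ∀ a b : G, orderOf a = orderOf b → ∃ α : G ≃* G, α a = b

variable {G : Type u} [Group G] [Finite G]

theorem mem_cent {a g : G} : g ∈ centralizer ({a} : Set G) ↔ g * a = a * g :=
  Subgroup.mem_centralizer_singleton_iff

theorem exists_orderOf_of_dvd {g : G} {m : ℕ} (h : m ∣ orderOf g) : ∃ k : ℕ, orderOf (g ^ k) = m := by
  exact ⟨orderOf g / m, orderOf_pow_orderOf_div (orderOf_pos g).ne' h⟩

theorem sylow_card_dvd_cent (hconj : OrdConj G) {r : ℕ} [Fact r.Prime] {a : G} (ha : orderOf a = r) :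
    ∃ R : Sylow r G, (R : Subgroup G) ≤ centralizer ({a} : Set G) ∧ a ∈ (R : Subgroup G) := by
  obtain ⟨P⟩ : Nonempty (Sylow r G) := inferInstance
  have hd : r ∣ Nat.card G := ha ▸ orderOf_dvd_natCard a
  have hne : (P : Subgroup G) ≠ ⊥ := fun e => by
    have := P.dvd_card_of_dvd_card hd
    rw [e, card_bot] at this
    exact (Fact.out : r.Prime).not_dvd_one this
  haveI : Nontrivial (P : Subgroup G) := (Subgroup.nontrivial_iff_ne_bot _).mpr hne
  haveI := P.2.center_nontrivial
  obtain ⟨k, hk⟩ := (P.2.to_subgroup (Subgroup.center (P : Subgroup G))).exists_card_eq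
  have hk0 : k ≠ 0 := fun e => by
    have := Finite.one_lt_card (α := Subgroup.center (P : Subgroup G))
    rw [hk, e, pow_zero] at this
    exact absurd this (lt_irrefl 1)
  obtain ⟨z, hz⟩ := exists_prime_orderOf_dvd_card' (G := Subgroup.center (P : Subgroup G)) r
    (hk ▸ dvd_pow_self r hk0)
  have hzo : orderOf ((z : (P : Subgroup G)) : G) = r := by
    rw [Subgroup.orderOf_coe, Subgroup.orderOf_coe, hz]
  obtain ⟨α, hα⟩ := hconj _ _ (hzo.trans ha.symm)
  refine ⟨P.mapSurjective (f := α.toMonoidHom) α.surjective, ?_, ?_⟩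
  · rintro _ ⟨g, hg, rfl⟩
    rw [mem_cent, ← hα]
    have := Subgroup.mem_center_iff.mp z.2 ⟨g, hg⟩
    change α g * α _ = α _ * α g
    rw [← map_mul, ← map_mul]
    exact congrArg α (congrArg Subtype.val this)
  · exact ⟨_, (z : (P : Subgroup G)).2, hα⟩

/-- A class of prime power size is impossible in a non-abelian simple group. -/
theorem not_class_prime_pow [IsSimpleGroup G] (hG : ¬ IsMulCommutative G) {g : G} (hg : g ≠ 1) {q : ℕ}
    (hq : q.Prime) (h : ∀ ℓ : ℕ, ℓ.Prime → ℓ ∣ (centralizer ({g} : Set G)).index → ℓ = q) : False := by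
  have h1 := Nat.eq_prime_pow_of_unique_prime_dvd (p := q) Subgroup.index_ne_zero_of_finite
    (fun {d} hd hdvd => h d hd hdvd)
  have h2 := CfsgLib.CharTheory.prime_card_of_simple_class_prime_pow hq hg h1
  haveI := Fact.mk h2
  haveI : IsCyclic G := isCyclic_of_prime_card (p := Nat.card G) rfl
  exact hG ⟨⟨fun a b => IsCyclic.commGroup.mul_comm a b⟩⟩

theorem not_dvd_index_of_sylow_le {r : ℕ} [Fact r.Prime] {K : Subgroup G} (R : Sylow r G)
    (h : (R : Subgroup G) ≤ K) : ¬ r ∣ K.index := fun hd =>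
  R.not_dvd_index (hd.trans (index_dvd_of_le h))

/-- An element inverted by a conjugation has its powers inverted. -/
theorem inv_pow {u x : G} (h : u * x * u⁻¹ = x⁻¹) (k : ℕ) : u * x ^ k * u⁻¹ = (x ^ k)⁻¹ := by
  rw [← conj_pow, h, _root_.inv_pow]

/-- An involution acting without fixed points on a subgroup inverts it, and the subgroup is abelian. -/
theorem fpf_invert {u : G} (hu : u * u = 1) (K : Subgroup G) (hn : ∀ k ∈ K, u * k * u⁻¹ ∈ K)
    (hfix : ∀ k ∈ K, u * k = k * u → k = 1) :
    (∀ k ∈ K, u * k * u⁻¹ = k⁻¹) ∧ ∀ a ∈ K, ∀ b ∈ K, a * b = b * a := by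
  have hinv : u⁻¹ = u := inv_eq_of_mul_eq_one_right hu
  let f : K → K := fun k => ⟨(k : G)⁻¹ * (u * k * u⁻¹), mul_mem (inv_mem k.2) (hn _ k.2)⟩
  have hf : Function.Injective f := by
    intro a b h
    have h' : (a : G)⁻¹ * (u * a * u⁻¹) = (b : G)⁻¹ * (u * b * u⁻¹) := congrArg Subtype.val h
    have h2 : (b : G) * (a : G)⁻¹ = 1 := by
      refine hfix _ (mul_mem b.2 (inv_mem a.2)) ?_
      have h3 : (b : G) * (a : G)⁻¹ = u * ((b : G) * (a : G)⁻¹) * u⁻¹ := by
        calc (b : G) * (a : G)⁻¹ = (b : G) * ((a : G)⁻¹ * (u * a * u⁻¹)) * (u * a * u⁻¹)⁻¹ := by group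
          _ = (b : G) * ((b : G)⁻¹ * (u * b * u⁻¹)) * (u * a * u⁻¹)⁻¹ := by rw [h']
          _ = _ := by group
      calc u * ((b : G) * (a : G)⁻¹) = (u * ((b : G) * (a : G)⁻¹) * u⁻¹) * u := by group
        _ = _ := by rw [← h3]
    exact Subtype.ext (mul_inv_eq_one.mp h2).symm
  have key : ∀ k ∈ K, u * k * u⁻¹ = k⁻¹ := by
    intro k hk
    obtain ⟨a, ha⟩ := Finite.surjective_of_injective hf ⟨k, hk⟩
    have ha' : (a : G)⁻¹ * (u * a * u⁻¹) = k := congrArg Subtype.val ha
    rw [← ha']
    simp only [hinv]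
    calc u * ((a : G)⁻¹ * (u * a * u)) * u = u * (a : G)⁻¹ * u * a * (u * u) := by group
      _ = u * (a : G)⁻¹ * u * a := by rw [hu, mul_one]
      _ = ((a : G)⁻¹ * (u⁻¹ * a * u⁻¹))⁻¹ := by group
      _ = _ := by rw [hinv]
  refine ⟨key, fun a ha b hb => ?_⟩
  have h1 := key _ (mul_mem ha hb)
  rw [show u * (a * b) * u⁻¹ = (u * a * u⁻¹) * (u * b * u⁻¹) by group, key a ha, key b hb, ← mul_inv_rev] at h1
  exact (inv_injective h1).symm

/-- A non-abelian simple group has two involutions whose product is not a power of an element of order two. -/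
theorem exists_product [IsSimpleGroup G] (hG : ¬ IsMulCommutative G) {t : G} (ht : orderOf t = 2) :
    ∃ u v : G, orderOf u = 2 ∧ orderOf v = 2 ∧ u * v ≠ v * u := by
  by_contra hcon
  push Not at hcon
  have h1 : normalClosure ({t} : Set G) = ⊤ := by
    refine (Subgroup.Normal.eq_bot_or_eq_top inferInstance).resolve_left fun e => ?_
    have : t ∈ (⊥ : Subgroup G) := e ▸ subset_normalClosure rfl
    rw [mem_bot] at this
    rw [this, orderOf_one] at ht
    omega
  refine hG ⟨⟨fun a b => ?_⟩⟩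
  have hc : closure (Group.conjugatesOfSet ({t} : Set G)) ≤ centralizer (Group.conjugatesOfSet ({t} : Set G)) := by
    rw [closure_le]
    intro x hx
    rw [SetLike.mem_coe, mem_centralizer_iff]
    intro y hy
    have ho : ∀ z ∈ Group.conjugatesOfSet ({t} : Set G), orderOf z = 2 := by
      intro z hz
      obtain ⟨w, rfl, hw⟩ := Group.mem_conjugatesOfSet_iff.mp hz
      obtain ⟨c, hc⟩ := isConj_iff.mp hw
      rw [← hc, CfsgLib.Involutions.orderOf_conj, ht]
    exact hcon y x (ho y hy) (ho x hx)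
  have htop : closure (Group.conjugatesOfSet ({t} : Set G)) = ⊤ := h1
  rw [htop] at hc
  have ha := mem_centralizer_iff.mp (hc (mem_top a))
  have hb : b ∈ closure (Group.conjugatesOfSet ({t} : Set G)) := htop ▸ mem_top b
  have hle : closure (Group.conjugatesOfSet ({t} : Set G)) ≤ centralizer ({a} : Set G) := by
    rw [closure_le]
    exact fun x hx => mem_cent.mpr (ha x hx)
  exact (mem_cent.mp (hle hb)).symm

/-- Orders of elements of a subgroup bound the prime divisors of its order. -/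
theorem prime_of_dvd_card {K : Subgroup G} {ℓ : ℕ} (hl : ℓ.Prime) (h : ℓ ∣ Nat.card K) :
    ∃ c ∈ K, orderOf c = ℓ := by
  haveI := Fact.mk hl
  obtain ⟨c, hc⟩ := exists_prime_orderOf_dvd_card' (G := K) ℓ h
  exact ⟨c, c.2, by rw [Subgroup.orderOf_coe, hc]⟩

/-- The prime divisors of the group order, given the element orders. -/
theorem prime_dvd_card_mem {O : Set ℕ} (hO : ∀ g : G, orderOf g ∈ O) {ℓ : ℕ} (hl : ℓ.Prime)
    (h : ℓ ∣ Nat.card G) : ℓ ∈ O := by
  haveI := Fact.mk hl
  obtain ⟨c, hc⟩ := exists_prime_orderOf_dvd_card' (G := G) ℓ h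
  exact hc ▸ hO c

end CfsgLib.FiveOrbits
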