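import Cfsg.Agent.Lib.FiveOrbits.Embedded

/-!
The configuration with element orders `1, 2, r, s, 2r` in which some involution centraliser has a nontrivial odd
normal subgroup: the structure of the centralisers.
-/

set_option autoImplicit false
set_option linter.unusedSectionVars false
set_option linter.style.haveILetI false

namespace CfsgLib.FiveOrbits

open Subgroup
open scoped Pointwise

universe u

variable {G : Type u} [Group G] [Finite G] {r s : ℕ}

/-- An element `x` of order `r` and a subgroup of index two of a Sylow two-subgroup centralising it, the rest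
inverting it. -/
structure Special {G : Type u} [Group G] (r : ℕ) (x : G) (S : Sylow 2 G) : Prop where
  ord : orderOf x = r
  two : 2 * Nat.card ((S : Subgroup G) ⊓ centralizer ({x} : Set G) : Subgroup G) = Nat.card (S : Subgroup G)
  act : ∀ u ∈ (S : Subgroup G), u * x * u⁻¹ = x ∨ u * x * u⁻¹ = x⁻¹

/-- Every two-element of `K` is conjugate in `K` into a given Sylow subgroup. -/
theorem conj_into {p : ℕ} [Fact p.Prime] (K : Subgroup G) (S : Sylow p G) (hSK : (S : Subgroup G) ≤ K) {b : G}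
    (hbK : b ∈ K) {n : ℕ} (hb : orderOf b = p ^ n) :
    ∃ k ∈ K, k * b * k⁻¹ ∈ (S : Subgroup G) := by
  let P : Sylow p K := S.subtype hSK
  have hp : IsPGroup p (zpowers (⟨b, hbK⟩ : K)) :=
    IsPGroup.of_card (n := n) (by rw [Nat.card_zpowers, Subgroup.orderOf_mk, hb])
  obtain ⟨Q, hQ⟩ := hp.exists_le_sylow
  obtain ⟨g, hg⟩ := MulAction.exists_smul_eq K Q P
  refine ⟨g, g.2, ?_⟩
  have h1 : MulAut.conj g • (⟨b, hbK⟩ : K) ∈ ((g • Q : Sylow p K) : Subgroup K) := by
    rw [Sylow.coe_subgroup_smul]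
    exact Subgroup.smul_mem_pointwise_smul _ _ _ (hQ (mem_zpowers _))
  rw [hg] at h1
  exact h1

theorem eigen {A S : Subgroup G} (hA : ∀ a ∈ A, ∀ b ∈ A, a * b = b * a) (hS2 : ∀ u ∈ S, u * u = 1)
    (hSc : ∀ a ∈ S, ∀ b ∈ S, a * b = b * a) (hn : ∀ u ∈ S, ∀ a ∈ A, u * a * u⁻¹ ∈ A) (hne : A ≠ ⊥) :
    ∃ x ∈ A, x ≠ 1 ∧ ∀ u ∈ S, u * x * u⁻¹ = x ∨ u * x * u⁻¹ = x⁻¹ := by
  classical
  haveI := Fintype.ofFinite G
  suffices ∀ L : Finset G, (∀ u ∈ L, u ∈ S) →
      ∃ x ∈ A, x ≠ 1 ∧ ∀ u ∈ L, u * x * u⁻¹ = x ∨ u * x * u⁻¹ = x⁻¹ by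
    obtain ⟨x, hx, hx1, h⟩ := this (Finset.univ.filter (· ∈ S)) (by simp)
    exact ⟨x, hx, hx1, fun u hu => h u (by simp [hu])⟩
  intro L
  induction L using Finset.induction_on with
  | empty =>
    intro _
    obtain ⟨x, hx, hx1⟩ := A.bot_or_exists_ne_one.resolve_left hne
    exact ⟨x, hx, hx1, by simp⟩
  | insert a L _ ih =>
    intro hL
    obtain ⟨x, hx, hx1, h⟩ := ih fun u hu => hL u (Finset.mem_insert_of_mem hu)
    have haS := hL a (Finset.mem_insert_self _ _)
    have hax := hn a haS x hx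
    have hfix : a * (x * (a * x * a⁻¹)) * a⁻¹ = x * (a * x * a⁻¹) := by
      have e : a⁻¹ = a := inv_eq_of_mul_eq_one_right (hS2 a haS)
      calc a * (x * (a * x * a⁻¹)) * a⁻¹ = (a * x * a⁻¹) * ((a * a) * x * (a⁻¹ * a⁻¹)) := by group
        _ = (a * x * a⁻¹) * x := by rw [e, hS2 a haS]; simp
        _ = _ := hA _ hax _ hx
    by_cases h1 : x * (a * x * a⁻¹) = 1
    · refine ⟨x, hx, hx1, fun u hu => ?_⟩
      rcases Finset.mem_insert.mp hu with rfl | hu'
      · exact Or.inr (eq_inv_of_mul_eq_one_right h1)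
      · exact h u hu'
    · refine ⟨_, mul_mem hx hax, h1, fun u hu => ?_⟩
      rcases Finset.mem_insert.mp hu with rfl | hu'
      · exact Or.inl hfix
      · have hua := hSc u (hL u hu) a haS
        have he : u * (x * (a * x * a⁻¹)) * u⁻¹ = (u * x * u⁻¹) * (a * (u * x * u⁻¹) * a⁻¹) := by
          calc u * (x * (a * x * a⁻¹)) * u⁻¹ = (u * x * u⁻¹) * ((u * a) * x * (u * a)⁻¹) := by group
            _ = (u * x * u⁻¹) * ((a * u) * x * (a * u)⁻¹) := by rw [hua]
            _ = _ := by group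
        rcases h u hu' with e | e
        · left; rw [he, e]
        · right
          rw [he, e, mul_inv_rev, show a * x⁻¹ * a⁻¹ = (a * x * a⁻¹)⁻¹ by group]
          exact hA _ (inv_mem hx) _ (inv_mem hax)

namespace TwoR

variable (c : TwoR G r s) [IsSimpleGroup G]

include c

theorem sylow_ne_bot (S : Sylow 2 G) : (S : Subgroup G) ≠ ⊥ := fun e => by
  haveI : Fact (Nat.Prime 2) := ⟨Nat.prime_two⟩
  have := S.dvd_card_of_dvd_card c.two_dvd
  rw [e, card_bot] at this
  exact Nat.prime_two.not_dvd_one this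

/-- The dichotomy. -/
theorem exists_special (h : ¬ CentNormalizes G) : ∃ x : G, ∃ S : Sylow 2 G, Special r x S := by
  unfold CentNormalizes at h
  push Not at h
  obtain ⟨S, t, htS, ht1, hle⟩ := h
  haveI : Fact (Nat.Prime 2) := ⟨Nat.prime_two⟩
  haveI := Fact.mk c.hr
  have hto := c.sylow_ord S htS ht1
  haveI := c.cent_solvable (a := t) (Or.inl hto)
  obtain ⟨O, hOK, hOn, hOodd, hdec, -⟩ := split_in (centralizer ({t} : Set G)) (S : Subgroup G)
    (c.sylow_le_cent S htS) S.2 (fun T _ hT hST => S.3 hT hST) (c.sylow_comm S)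
  have hOne : O ≠ ⊥ := fun e => hle fun k hk => by
    obtain ⟨o, ho, n, -, hn, rfl⟩ := hdec k hk
    rw [e, mem_bot] at ho
    rwa [ho, one_mul]
  have hOr : IsPGroup r O := fun o => by
    rcases c.orders (o : G) with e | e | e | e | e
    · exact ⟨0, by rw [pow_zero, pow_one]; exact Subtype.ext (orderOf_eq_one_iff.mp e)⟩
    · exact absurd e.symm.dvd (hOodd _ o.2)
    · exact ⟨1, by rw [pow_one]; exact Subtype.ext (by rw [Subgroup.coe_pow, ← e]; exact pow_orderOf_eq_one _)⟩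
    · exact absurd e.symm.dvd (c.not_s_dvd_cent (Or.inl hto) (mem_cent.mp (hOK o.2)))
    · exact absurd (e ▸ dvd_mul_right 2 r) (hOodd _ o.2)
  haveI : Nontrivial O := (Subgroup.nontrivial_iff_ne_bot O).mpr hOne
  haveI := hOr.center_nontrivial
  set A : Subgroup G := (Subgroup.center O).map O.subtype with hA
  have hAn : ∀ u ∈ (S : Subgroup G), ∀ a ∈ A, u * a * u⁻¹ ∈ A := by
    rintro u hu _ ⟨a, ha, rfl⟩
    have huK := c.sylow_le_cent S htS hu
    refine ⟨⟨u * a * u⁻¹, hOn u huK _ a.2⟩, Subgroup.mem_center_iff.mpr fun g => Subtype.ext ?_, rfl⟩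
    have h1 := Subgroup.mem_center_iff.mp ha ⟨u⁻¹ * g * u, by
      have := hOn u⁻¹ (inv_mem huK) _ g.2
      rwa [inv_inv] at this⟩
    have h2 : u⁻¹ * g * u * (a : G) = (a : G) * (u⁻¹ * g * u) := congrArg Subtype.val h1
    show (g : G) * (u * a * u⁻¹) = u * a * u⁻¹ * g
    calc (g : G) * (u * a * u⁻¹) = u * (u⁻¹ * g * u * (a : G)) * u⁻¹ := by group
      _ = u * ((a : G) * (u⁻¹ * g * u)) * u⁻¹ := by rw [h2]
      _ = _ := by group
  obtain ⟨x, hxA, hx1, hact⟩ := eigen (A := A) (S := (S : Subgroup G)) (by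
      rintro _ ⟨a, ha, rfl⟩ _ ⟨b, -, rfl⟩
      exact (congrArg Subtype.val (Subgroup.mem_center_iff.mp ha b)).symm)
    (fun u hu => c.sylow_sq S hu) (c.sylow_comm S) hAn
    (by rw [hA, Ne, map_eq_bot_iff_of_injective _ O.subtype_injective]
        exact (Subgroup.nontrivial_iff_ne_bot _).mp inferInstance)
  have hxO : x ∈ O := (map_subtype_le _) hxA
  have hxr : orderOf x = r := by
    rcases c.orders x with e | e | e | e | e
    · exact absurd (orderOf_eq_one_iff.mp e) hx1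
    · exact absurd e.symm.dvd (hOodd _ hxO)
    · exact e
    · exact absurd e.symm.dvd (c.not_s_dvd_cent (Or.inl hto) (mem_cent.mp (hOK hxO)))
    · exact absurd (e ▸ dvd_mul_right 2 r) (hOodd _ hxO)
  refine ⟨x, S, hxr, ?_, hact⟩
  set B := (S : Subgroup G) ⊓ centralizer ({x} : Set G)
  obtain ⟨u0, hu0S, hu0⟩ : ∃ u0 ∈ (S : Subgroup G), u0 ∉ B := by
    by_contra hcon
    push Not at hcon
    have := c.cent_sylow S (k := x) fun a ha => (mem_cent.mp (mem_inf.mp (hcon a ha)).2).symm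
    exact c.hr2 (hxr.symm.trans (c.sylow_ord S this hx1))
  have hu0x : u0 * x * u0⁻¹ = x⁻¹ := (hact u0 hu0S).resolve_left fun e =>
    hu0 (mem_inf.mpr ⟨hu0S, mem_cent.mpr ((conj_eq_iff_mul u0 x).mp e)⟩)
  have hidx : (B.subgroupOf (S : Subgroup G)).index = 2 := by
    rw [Subgroup.index_eq_two_iff]
    refine ⟨⟨u0, hu0S⟩, fun b => ?_⟩
    have hmem : ∀ w ∈ (S : Subgroup G), w ∈ B ↔ w * x * w⁻¹ = x := fun w hw =>
      ⟨fun h => (conj_eq_iff_mul w x).mpr (mem_cent.mp (mem_inf.mp h).2),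
       fun h => mem_inf.mpr ⟨hw, mem_cent.mpr ((conj_eq_iff_mul w x).mp h)⟩⟩
    have hne : x⁻¹ ≠ x := fun e => by
      have h1 : x ^ 2 = 1 := by rw [pow_two]; exact mul_eq_one_iff_eq_inv.mpr e.symm
      rcases (Nat.dvd_prime Nat.prime_two).mp (hxr ▸ orderOf_dvd_of_pow_eq_one h1) with h | h
      · exact c.hr.ne_one h
      · exact c.hr2 h
    simp only [mem_subgroupOf, Subgroup.coe_mul]
    rw [hmem _ (mul_mem b.2 hu0S), hmem _ b.2]
    have e : ((b : G) * u0) * x * ((b : G) * u0)⁻¹ = ((b : G) * x * (b : G)⁻¹)⁻¹ := by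
      calc ((b : G) * u0) * x * ((b : G) * u0)⁻¹ = (b : G) * (u0 * x * u0⁻¹) * (b : G)⁻¹ := by group
        _ = _ := by rw [hu0x]; group
    rw [e]
    rcases hact _ b.2 with hb | hb <;> rw [hb]
    · exact Or.inr ⟨rfl, hne⟩
    · exact Or.inl ⟨inv_inv x, hne⟩
  have h2 := (B.subgroupOf (S : Subgroup G)).card_mul_index
  rw [hidx, Nat.card_congr (subgroupOfEquivOfLe (inf_le_left : B ≤ (S : Subgroup G))).toEquiv] at h2
  rw [← h2, mul_comm]

variable {x : G} {S₀ : Sylow 2 G} (hx : Special r x S₀)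
include hx

/-- Every element of order `r` centralises a two-group of half the order of a Sylow subgroup. -/
theorem exists_half {g : G} (hg : orderOf g = r) (B0 : Subgroup G) (hB0 : IsPGroup 2 B0)
    (hle : B0 ≤ centralizer ({g} : Set G)) (S : Sylow 2 G) :
    ∃ B' : Subgroup G, B0 ≤ B' ∧ B' ≤ centralizer ({g} : Set G) ∧ IsPGroup 2 B' ∧
      Nat.card (S : Subgroup G) ≤ 2 * Nat.card B' := by
  haveI : Fact (Nat.Prime 2) := ⟨Nat.prime_two⟩
  set C := centralizer ({g} : Set G)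
  have h0 : IsPGroup 2 (B0.subgroupOf C) := hB0.of_equiv (subgroupOfEquivOfLe hle).symm
  obtain ⟨P, hP⟩ := h0.exists_le_sylow
  refine ⟨(P : Subgroup C).map C.subtype, fun b hb => ⟨⟨b, hle hb⟩, hP hb, rfl⟩, map_subtype_le _, P.2.map _, ?_⟩
  obtain ⟨α, hα⟩ := c.conj x g (hx.ord.trans hg.symm)
  set B := (S₀ : Subgroup G) ⊓ centralizer ({x} : Set G)
  have hB : IsPGroup 2 B := S₀.2.to_le inf_le_left
  have hBC : B.map α.toMonoidHom ≤ C := by
    rintro _ ⟨b, hb, rfl⟩
    refine mem_cent.mpr ?_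
    rw [← hα]
    change α b * α x = α x * α b
    rw [← map_mul, ← map_mul, mem_cent.mp (mem_inf.mp hb).2]
  have h1 : IsPGroup 2 ((B.map α.toMonoidHom).subgroupOf C) :=
    (hB.map _).of_equiv (subgroupOfEquivOfLe hBC).symm
  obtain ⟨Q, hQ⟩ := h1.exists_le_sylow
  have h2 : Nat.card ((B.map α.toMonoidHom).subgroupOf C) ∣ Nat.card Q := card_dvd_of_le hQ
  rw [Nat.card_congr (subgroupOfEquivOfLe hBC).toEquiv, Nat.card_congr ((B.equivMapOfInjective α.toMonoidHom α.injective).toEquiv).symm,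
    Q.card_eq_multiplicity, ← P.card_eq_multiplicity] at h2
  rw [← Nat.card_congr ((P : Subgroup C).equivMapOfInjective C.subtype C.subtype_injective).toEquiv,
    ← Sylow.card_eq_multiplicity S₀ |>.trans (Sylow.card_eq_multiplicity S).symm, ← hx.two]
  exact Nat.mul_le_mul_left 2 (Nat.le_of_dvd Nat.card_pos h2)

/-- An element normalising a Sylow two-subgroup and centralising one of its involutions lies in it. -/
theorem norm_cent_mem (S : Sylow 2 G) {t n : G} (ht : t ∈ (S : Subgroup G)) (ht1 : t ≠ 1)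
    (hn : n ∈ normalizer ((S : Subgroup G) : Set G)) (hc : n * t = t * n) : n ∈ (S : Subgroup G) := by
  haveI : Fact (Nat.Prime 2) := ⟨Nat.prime_two⟩
  have hto := c.sylow_ord S ht ht1
  by_cases hr : r ∣ orderOf n
  · exfalso
    obtain ⟨i, hi⟩ := exists_orderOf_of_dvd hr
    set g := n ^ i with hg
    have hgN : g ∈ normalizer ((S : Subgroup G) : Set G) := pow_mem hn i
    have hgt : g * t = t * g := ((show Commute n t from hc).pow_left i).eq
    set B0 := (S : Subgroup G) ⊓ centralizer ({g} : Set G) with hB0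
    have htB : t ∈ B0 := mem_inf.mpr ⟨ht, mem_cent.mpr hgt.symm⟩
    obtain ⟨B', hle, hC', hp', hcard⟩ := c.exists_half hx hi B0 (S.2.to_le inf_le_left) inf_le_right S
    obtain ⟨T, hT⟩ := hp'.exists_le_sylow
    haveI := c.cent_solvable (a := t) (Or.inl hto)
    set K := centralizer ({t} : Set G)
    obtain ⟨O, hOK, hOn, hOodd, hdec, -⟩ := split_in K (S : Subgroup G)
      (c.sylow_le_cent S ht) S.2 (fun T _ hT hST => S.3 hT hST) (c.sylow_comm S)
    have hgK : g ∈ K := mem_cent.mpr hgt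
    have hB'K : B' ≤ K := fun b hb => mem_cent.mpr (c.sylow_comm T b (hT hb) t (hT (hle htB)))
    have hform : ∀ b : B', ∃ o ∈ O, ∃ σ ∈ (S : Subgroup G), (b : G) = o * σ * o⁻¹ := by
      intro b
      obtain ⟨j, hj⟩ := IsPGroup.iff_orderOf.mp hp' b
      obtain ⟨k, hk, hkb⟩ := conj_into K S (c.sylow_le_cent S ht) (hB'K b.2) (n := j)
        (by rw [Subgroup.orderOf_coe, hj])
      obtain ⟨o, ho, m, -, hm, he⟩ := hdec k⁻¹ (inv_mem hk)
      refine ⟨o, ho, m * (k * b * k⁻¹) * m⁻¹, (mem_normalizer_iff.mp hm _).mp hkb, ?_⟩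
      have e2 : k = m⁻¹ * o⁻¹ := by rw [← inv_inv k, he, mul_inv_rev]
      rw [e2]; group
    choose o ho σ hσ hbσ using hform
    have hσB : ∀ b : B', σ b ∈ B0 := by
      intro b
      refine mem_inf.mpr ⟨hσ b, mem_cent.mpr ?_⟩
      have hb : g * (b : G) = (b : G) * g := (mem_cent.mp (hC' b.2)).symm
      set a := g * o b * g⁻¹ with ha
      have haO : a ∈ O := hOn g hgK _ (ho b)
      set w := g * σ b * g⁻¹
      have hwS : w ∈ (S : Subgroup G) := (mem_normalizer_iff.mp hgN _).mp (hσ b)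
      have hkey : a * w * a⁻¹ = o b * σ b * (o b)⁻¹ := by
        rw [← hbσ b]
        calc a * w * a⁻¹ = g * (o b * σ b * (o b)⁻¹) * g⁻¹ := by rw [ha, show w = g * σ b * g⁻¹ from rfl]; group
          _ = g * (b : G) * g⁻¹ := by rw [← hbσ b]
          _ = (b : G) := (conj_eq_iff_mul g _).mpr hb
      set d := a⁻¹ * o b
      have hdO : d ∈ O := mul_mem (inv_mem haO) (ho b)
      have hw' : w = d * σ b * d⁻¹ := by
        calc w = a⁻¹ * (a * w * a⁻¹) * a := by group
          _ = _ := by rw [hkey, show d = a⁻¹ * o b from rfl]; group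
      have hmem : w * (σ b)⁻¹ ∈ O := by
        rw [hw', show d * σ b * d⁻¹ * (σ b)⁻¹ = d * (σ b * d⁻¹ * (σ b)⁻¹) by group]
        exact mul_mem hdO (hOn _ (c.sylow_le_cent S ht (hσ b)) _ (inv_mem hdO))
      have h1 : w * (σ b)⁻¹ = 1 := by
        by_contra hne
        exact hOodd _ hmem (by rw [c.sylow_ord S (mul_mem hwS (inv_mem (hσ b))) hne])
      exact ((conj_eq_iff_mul g _).mp (mul_inv_eq_one.mp h1)).symm
    have hinj : Function.Injective fun b : B' => (⟨σ b, hσB b⟩ : B0) := by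
      intro a b h
      have h' : σ a = σ b := congrArg Subtype.val h
      by_contra hne
      have h1 : (a : G) * (b : G)⁻¹ ∈ O := by
        rw [hbσ a, hbσ b, h', show o a * σ b * (o a)⁻¹ * (o b * σ b * (o b)⁻¹)⁻¹
            = o a * (σ b * ((o a)⁻¹ * o b) * (σ b)⁻¹) * (o b)⁻¹ by group]
        exact mul_mem (mul_mem (ho a) (hOn _ (c.sylow_le_cent S ht (hσ b)) _ (mul_mem (inv_mem (ho a)) (ho b))))
          (inv_mem (ho b))
      refine hOodd _ h1 ?_
      rw [c.sylow_ord T (mul_mem (hT a.2) (inv_mem (hT b.2))) fun e => hne (Subtype.ext (mul_inv_eq_one.mp e))]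
    have hcard2 := Nat.card_le_card_of_injective _ hinj
    -- `B0` has index two, so the square of `g` centralises the Sylow subgroup
    obtain ⟨u, huS, huB⟩ : ∃ u ∈ (S : Subgroup G), u ∉ B0 := by
      by_contra hcon
      push Not at hcon
      have := c.cent_sylow S (k := g) fun a ha => (mem_cent.mp (mem_inf.mp (hcon a ha)).2).symm
      have h2 := c.sylow_ord S this fun e => c.hr.ne_one (by rw [← hi, e, orderOf_one])
      exact c.hr2 (hi.symm.trans h2)
    have hidx : (B0.subgroupOf (S : Subgroup G)).index = 2 := by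
      have h2 := (B0.subgroupOf (S : Subgroup G)).card_mul_index
      rw [Nat.card_congr (subgroupOfEquivOfLe (inf_le_left : B0 ≤ (S : Subgroup G))).toEquiv] at h2
      have hne1 : (B0.subgroupOf (S : Subgroup G)).index ≠ 1 := fun e => huB (by
        have := (Subgroup.index_eq_one.mp e) ▸ mem_top (⟨u, huS⟩ : (S : Subgroup G))
        exact mem_subgroupOf.mp this)
      have hne0 : (B0.subgroupOf (S : Subgroup G)).index ≠ 0 := Subgroup.index_ne_zero_of_finite
      have hle2 : (B0.subgroupOf (S : Subgroup G)).index ≤ 2 := by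
        refine Nat.le_of_mul_le_mul_left ?_ (Nat.card_pos (α := B0))
        rw [h2]
        exact hcard.trans (by rw [mul_comm]; exact Nat.mul_le_mul_right 2 hcard2)
      omega
    set b0 := u * (g * u * g⁻¹) with hb0
    have hb0B : b0 ∈ B0 := by
      have hgu : g * u * g⁻¹ ∉ B0 := by
        intro h
        have h1 := (conj_eq_iff_mul (g * u * g⁻¹) g).mpr (mem_cent.mp (mem_inf.mp h).2)
        refine huB (mem_inf.mpr ⟨huS, mem_cent.mpr ((conj_eq_iff_mul u g).mp ?_)⟩)
        calc u * g * u⁻¹ = g⁻¹ * ((g * u * g⁻¹) * g * (g * u * g⁻¹)⁻¹) * g := by group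
          _ = g := by rw [h1]; group
      have := (Subgroup.mul_mem_iff_of_index_two hidx (a := ⟨u, huS⟩)
        (b := ⟨g * u * g⁻¹, (mem_normalizer_iff.mp hgN u).mp huS⟩)).mpr (by
          simp only [mem_subgroupOf]; exact iff_of_false huB hgu)
      exact mem_subgroupOf.mp this
    have hgu2 : g * u * g⁻¹ = u * b0 := by
      rw [hb0, ← mul_assoc, c.sylow_sq S huS, one_mul]
    have hfix : g * (g * u * g⁻¹) * g⁻¹ = u := by
      have hb : g * b0 * g⁻¹ = b0 := (conj_eq_iff_mul g b0).mpr (mem_cent.mp (mem_inf.mp hb0B).2).symm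
      rw [hgu2, show g * (u * b0) * g⁻¹ = (g * u * g⁻¹) * (g * b0 * g⁻¹) by group, hb, hgu2, mul_assoc,
        c.sylow_sq S (mem_inf.mp hb0B).1, mul_one]
    have hall : ∀ a ∈ (S : Subgroup G), g ^ 2 * a = a * g ^ 2 := by
      intro a haS
      by_cases haB : a ∈ B0
      · exact ((show Commute g a from (mem_cent.mp (mem_inf.mp haB).2).symm).pow_left 2).eq
      · have hm : u * a ∈ B0 := by
          have := (Subgroup.mul_mem_iff_of_index_two hidx (a := ⟨u, huS⟩) (b := ⟨a, haS⟩)).mpr (by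
            simp only [mem_subgroupOf]; exact iff_of_false huB haB)
          exact mem_subgroupOf.mp this
        have h1 : Commute (g ^ 2) (u * a) := (show Commute g (u * a) from (mem_cent.mp (mem_inf.mp hm).2).symm).pow_left 2
        have h2 : Commute (g ^ 2) u := by
          refine (conj_eq_iff_mul (g ^ 2) u).mp ?_
          calc g ^ 2 * u * (g ^ 2)⁻¹ = g * (g * u * g⁻¹) * g⁻¹ := by
                rw [pow_two, mul_inv_rev]; group
            _ = u := hfix
        have h3 := h2.mul_right h1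
        rwa [← mul_assoc, c.sylow_sq S huS, one_mul] at h3
    have h4 := c.cent_sylow S hall
    have h5 : orderOf (g ^ 2) = r := by
      rw [Nat.Coprime.orderOf_pow]
      · exact hi
      · rw [hi]; exact (Nat.coprime_primes c.hr Nat.prime_two).mpr c.hr2
    exact c.hr2 (h5.symm.trans (c.sylow_ord S h4 fun e => c.hr.ne_one (by rw [← h5, e, orderOf_one])))
  · by_cases h1 : n = 1
    · rw [h1]; exact one_mem _
    · refine c.mem_of_two S hn ?_
      rcases c.orders n with e | e | e | e | e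
      · exact absurd (orderOf_eq_one_iff.mp e) h1
      · exact e
      · exact absurd e.symm.dvd hr
      · exact absurd e.symm.dvd (c.not_s_dvd_cent (Or.inl hto) hc)
      · exact absurd (e ▸ dvd_mul_left r 2) hr

/-- A centraliser of an involution is an odd normal subgroup times a Sylow two-subgroup. -/
theorem cent_decomp (S : Sylow 2 G) {t : G} (ht : t ∈ (S : Subgroup G)) (ht1 : t ≠ 1) :
    ∃ O : Subgroup G, O ≤ centralizer ({t} : Set G) ∧
      (∀ k ∈ centralizer ({t} : Set G), ∀ o ∈ O, k * o * k⁻¹ ∈ O) ∧ (∀ o ∈ O, ¬ 2 ∣ orderOf o) ∧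
      ∀ k ∈ centralizer ({t} : Set G), ∃ o ∈ O, ∃ σ ∈ (S : Subgroup G), k = o * σ := by
  haveI : Fact (Nat.Prime 2) := ⟨Nat.prime_two⟩
  haveI := c.cent_solvable (a := t) (Or.inl (c.sylow_ord S ht ht1))
  obtain ⟨O, hOK, hOn, hOodd, hdec, -⟩ := split_in (centralizer ({t} : Set G)) (S : Subgroup G)
    (c.sylow_le_cent S ht) S.2 (fun T _ hT hST => S.3 hT hST) (c.sylow_comm S)
  refine ⟨O, hOK, hOn, hOodd, fun k hk => ?_⟩
  obtain ⟨o, ho, n, hnK, hn, he⟩ := hdec k hk
  exact ⟨o, ho, n, c.norm_cent_mem hx S ht ht1 hn (mem_cent.mp hnK), he⟩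

theorem exists_moving (S : Sylow 2 G) :
    ∃ n ∈ normalizer ((S : Subgroup G) : Set G), ∀ t ∈ (S : Subgroup G), t ≠ 1 → n * t ≠ t * n ∧ n ^ 2 * t ≠ t * n ^ 2 := by
  haveI : Fact (Nat.Prime 2) := ⟨Nat.prime_two⟩
  obtain ⟨n, hn, hnS⟩ := exists_normalizer_notMem c.nonab c.two_dvd S (c.sylow_comm S)
  refine ⟨n, hn, fun t ht ht1 => ⟨fun e => hnS (c.norm_cent_mem hx S ht ht1 hn e), fun e => ?_⟩⟩
  have h2 := c.norm_cent_mem hx S ht ht1 (pow_mem hn 2) e
  have h4 : n ^ 4 = 1 := by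
    rw [show (4 : ℕ) = 2 * 2 from rfl, pow_mul, pow_two]
    exact c.sylow_sq S h2
  obtain ⟨j, -, hj⟩ := (Nat.dvd_prime_pow Nat.prime_two).mp
    (show orderOf n ∣ 2 ^ 2 from orderOf_dvd_of_pow_eq_one h4)
  have h1 := c.two_elt_sq hj
  refine hnS (c.mem_of_two S hn (CfsgLib.Involutions.orderOf_eq_two_iff'.mpr ⟨h1, fun e1 => ?_⟩))
  exact hnS (e1 ▸ one_mem _)

/-- A Sylow subgroup for `r` normalised by a Sylow two-subgroup. -/
theorem exists_invariant_sylow [Fact r.Prime] :
    ∃ R : Sylow r G, (S₀ : Subgroup G) ≤ normalizer ((R : Subgroup G) : Set G) := by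
  haveI : Fact (Nat.Prime 2) := ⟨Nat.prime_two⟩
  set K := centralizer ({x} : Set G) with hK
  set B := (S₀ : Subgroup G) ⊓ K with hB
  haveI := c.cent_solvable (a := x) (Or.inr hx.ord)
  have hBab : ∀ a ∈ B, ∀ b ∈ B, a * b = b * a := fun a ha b hb => c.sylow_comm S₀ a (mem_inf.mp ha).1 b (mem_inf.mp hb).1
  have hmax : ∀ T : Subgroup G, T ≤ K → IsPGroup 2 T → B ≤ T → T = B := by
    intro T hTK hT hBT
    obtain ⟨P, hP⟩ := hT.exists_le_sylow
    have hne : T ≠ (P : Subgroup G) := fun e => by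
      have := c.cent_sylow P (k := x) fun a ha => (mem_cent.mp (hTK (e ▸ ha))).symm
      exact c.hr2 (hx.ord.symm.trans (c.sylow_ord P this fun e1 => c.hr.ne_one (by rw [← hx.ord, e1, orderOf_one])))
    have h1 : Nat.card T * 2 ≤ Nat.card (P : Subgroup G) := by
      obtain ⟨i, hi⟩ := IsPGroup.iff_card.mp hT
      obtain ⟨j, hj⟩ := IsPGroup.iff_card.mp P.2
      have hlt : Nat.card T < Nat.card (P : Subgroup G) :=
        lt_of_le_of_ne (Subgroup.card_le_of_le hP) fun e => hne (Subgroup.eq_of_le_of_card_ge hP e.ge)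
      rw [hi, hj] at hlt ⊢
      rw [← pow_succ]
      exact Nat.pow_le_pow_right (by norm_num) ((Nat.pow_lt_pow_iff_right (by norm_num)).mp hlt)
    have h2 : Nat.card (P : Subgroup G) = Nat.card (S₀ : Subgroup G) :=
      (Sylow.card_eq_multiplicity P).trans (Sylow.card_eq_multiplicity S₀).symm
    refine (Subgroup.eq_of_le_of_card_ge hBT ?_).symm
    have h3 : 2 * Nat.card B = Nat.card (S₀ : Subgroup G) := hx.two
    omega
  obtain ⟨O, hOK, hOn, hOodd, hdec, hcent⟩ :=
    split_in K B inf_le_right (S₀.2.to_le inf_le_left) hmax hBab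
  -- the normaliser of `B` in `K` centralises it
  have hnB : ∀ n ∈ K, n ∈ normalizer (B : Set G) → ∀ b ∈ B, n * b = b * n := by
    intro n hnK hn
    set L := centralizer (B : Set G) with hL
    have hSL : (S₀ : Subgroup G) ≤ L := fun a ha => mem_centralizer_iff.mpr fun b hb =>
      c.sylow_comm S₀ b (mem_inf.mp hb).1 a ha
    have hSL' : ((n • S₀ : Sylow 2 G) : Subgroup G) ≤ L := by
      intro a ha
      rw [Sylow.coe_subgroup_smul, Subgroup.mem_pointwise_smul_iff_inv_smul_mem, MulAut.smul_def,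
        MulAut.conj_inv_apply] at ha
      refine mem_centralizer_iff.mpr fun b hb => ?_
      have hb' : n⁻¹ * b * n ∈ B := (mem_normalizer_iff.mp hn _).mpr (by
        rwa [show n * (n⁻¹ * b * n) * n⁻¹ = b by group])
      have h1 := c.sylow_comm S₀ _ (mem_inf.mp hb').1 _ ha
      calc b * a = n * ((n⁻¹ * b * n) * (n⁻¹ * a * n)) * n⁻¹ := by group
        _ = n * ((n⁻¹ * a * n) * (n⁻¹ * b * n)) * n⁻¹ := by rw [h1]
        _ = a * b := by group
    obtain ⟨k, hk⟩ := MulAction.exists_smul_eq L ((n • S₀).subtype hSL') (S₀.subtype hSL)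
    have hkn : ((k : G) * n) • S₀ = S₀ := by
      rw [mul_smul]
      refine Sylow.subtype_injective (hP := ?_) (hQ := hSL) ?_
      · intro a ha
        rw [Sylow.coe_subgroup_smul, Subgroup.mem_pointwise_smul_iff_inv_smul_mem, MulAut.smul_def,
          MulAut.conj_inv_apply] at ha
        have := mul_mem (mul_mem k.2 (hSL' ha)) (inv_mem k.2)
        simpa [mul_assoc] using this
      · exact (Sylow.smul_subtype hSL' k).symm.trans hk
    set m := (k : G) * n with hm
    have hmS : m ∈ normalizer ((S₀ : Subgroup G) : Set G) := Sylow.smul_eq_iff_mem_normalizer.mp hkn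
    have hmact : ∀ b ∈ B, m * b * m⁻¹ = n * b * n⁻¹ := by
      intro b hb
      have h1 := (conj_eq_iff_mul (k : G) (n * b * n⁻¹)).mpr
        (mem_centralizer_iff.mp k.2 _ ((mem_normalizer_iff.mp hn b).mp hb)).symm
      calc m * b * m⁻¹ = (k : G) * (n * b * n⁻¹) * (k : G)⁻¹ := by rw [hm]; group
        _ = _ := h1
    intro b hb
    suffices m ∈ (S₀ : Subgroup G) by
      refine (conj_eq_iff_mul n b).mp ?_
      rw [← hmact b hb]
      exact (conj_eq_iff_mul m b).mpr (c.sylow_comm S₀ m this b (mem_inf.mp hb).1)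
    by_cases hfix : ∃ a ∈ B, a ≠ 1 ∧ m * a = a * m
    · obtain ⟨a, ha, ha1, hc⟩ := hfix
      exact c.norm_cent_mem hx S₀ (mem_inf.mp ha).1 ha1 hmS hc
    push Not at hfix
    have hmB : ∀ a ∈ B, m * a * m⁻¹ ∈ B := fun a ha => hmact a ha ▸ (mem_normalizer_iff.mp hn a).mp ha
    let β : B → B := fun a => ⟨m * a * m⁻¹ * a, mul_mem (hmB _ a.2) a.2⟩
    have hβ : Function.Injective β := by
      intro a a' h
      have h' : m * (a : G) * m⁻¹ * a = m * (a' : G) * m⁻¹ * a' := congrArg Subtype.val h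
      by_contra hne
      refine hfix ((a : G) * a') (mul_mem a.2 a'.2) (fun e => hne (Subtype.ext ?_)) ((conj_eq_iff_mul m _).mp ?_)
      · calc (a : G) = (a : G) * ((a' : G) * a') := by rw [c.sylow_sq S₀ (mem_inf.mp a'.2).1, mul_one]
          _ = _ := by rw [← mul_assoc, e, one_mul]
      · calc m * ((a : G) * a') * m⁻¹ = (m * a * m⁻¹ * a) * ((a : G)⁻¹ * (m * a' * m⁻¹)) := by group
          _ = (m * a' * m⁻¹ * a') * ((a : G) * (m * a' * m⁻¹)) := by
            rw [h', inv_eq_of_mul_eq_one_right (c.sylow_sq S₀ (mem_inf.mp a.2).1)]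
          _ = (m * a' * m⁻¹) * ((a' : G) * a) * (m * a' * m⁻¹) := by group
          _ = ((a' : G) * a) * (m * a' * m⁻¹) * (m * a' * m⁻¹) := by
            rw [hBab _ (hmB _ a'.2) _ (mul_mem a'.2 a.2)]
          _ = (a : G) * a' := by
            rw [mul_assoc ((a' : G) * a), c.sylow_sq S₀ (mem_inf.mp (hmB _ a'.2)).1, mul_one, hBab _ a'.2 _ a.2]
    obtain ⟨u, huS, huB⟩ : ∃ u ∈ (S₀ : Subgroup G), u ∉ B := by
      by_contra hcon
      push Not at hcon
      have h2 : B = (S₀ : Subgroup G) := le_antisymm inf_le_left hcon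
      have h3 : 2 * Nat.card B = Nat.card (S₀ : Subgroup G) := hx.two
      rw [h2] at h3
      have := Nat.card_pos (α := (S₀ : Subgroup G))
      omega
    have hidx : (B.subgroupOf (S₀ : Subgroup G)).index = 2 := by
      have h2 := (B.subgroupOf (S₀ : Subgroup G)).card_mul_index
      rw [Nat.card_congr (subgroupOfEquivOfLe (inf_le_left : B ≤ (S₀ : Subgroup G))).toEquiv, ← hx.two, mul_comm 2] at h2
      exact Nat.eq_of_mul_eq_mul_left (Nat.card_pos (α := B)) h2
    have hmu : m * u * m⁻¹ ∈ (S₀ : Subgroup G) := (mem_normalizer_iff.mp hmS u).mp huS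
    have hmuB : m * u * m⁻¹ ∉ B := fun h => by
      obtain ⟨a, ha⟩ := Finite.surjective_of_injective (f := fun a : B => (⟨m * a * m⁻¹, hmB _ a.2⟩ : B))
        (fun a a' e => Subtype.ext (mul_left_cancel (mul_right_cancel (congrArg Subtype.val e)))) ⟨_, h⟩
      exact huB (mul_left_cancel (mul_right_cancel (congrArg Subtype.val ha)) ▸ a.2)
    have hb0 : u * (m * u * m⁻¹) ∈ B := by
      have := (Subgroup.mul_mem_iff_of_index_two hidx (a := ⟨u, huS⟩) (b := ⟨_, hmu⟩)).mpr (by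
        simp only [mem_subgroupOf]; exact iff_of_false huB hmuB)
      exact mem_subgroupOf.mp this
    obtain ⟨a, ha⟩ := Finite.surjective_of_injective hβ ⟨_, hb0⟩
    have ha' : m * (a : G) * m⁻¹ * a = u * (m * u * m⁻¹) := congrArg Subtype.val ha
    refine c.norm_cent_mem hx S₀ (t := u * a) (mul_mem huS (mem_inf.mp a.2).1)
      (fun e => huB (eq_inv_of_mul_eq_one_left e ▸ inv_mem a.2)) hmS ((conj_eq_iff_mul m _).mp ?_)
    calc m * (u * a) * m⁻¹ = (m * u * m⁻¹) * ((m * a * m⁻¹ * a) * (a : G)⁻¹) := by group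
      _ = (m * u * m⁻¹) * ((u * (m * u * m⁻¹)) * a) := by
        rw [ha', inv_eq_of_mul_eq_one_right (c.sylow_sq S₀ (mem_inf.mp a.2).1)]
      _ = u * a := by
        rw [c.sylow_comm S₀ u huS _ hmu, ← mul_assoc, ← mul_assoc, c.sylow_sq S₀ hmu, one_mul]
  have hprod : ∀ k ∈ K, ∃ o ∈ O, ∃ b ∈ B, k = o * b := by
    intro k hk
    obtain ⟨o, ho, n, hnK, hn, he⟩ := hdec k hk
    obtain ⟨o', ho', b, hb, he'⟩ := hcent n hnK (hnB n hnK hn)
    exact ⟨o * o', mul_mem ho ho', b, hb, by rw [he, he', mul_assoc]⟩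
  obtain ⟨R, hRC, -⟩ := sylow_card_dvd_cent c.conj hx.ord
  have hOr : IsPGroup r O := fun o => by
    rcases c.orders (o : G) with e | e | e | e | e
    · exact ⟨0, by rw [pow_zero, pow_one]; exact Subtype.ext (orderOf_eq_one_iff.mp e)⟩
    · exact absurd e.symm.dvd (hOodd _ o.2)
    · exact ⟨1, by rw [pow_one]; exact Subtype.ext (by rw [Subgroup.coe_pow, ← e]; exact pow_orderOf_eq_one _)⟩
    · exact absurd e.symm.dvd (c.not_s_dvd_cent (Or.inr hx.ord) (mem_cent.mp (hOK o.2)))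
    · exact absurd (e ▸ dvd_mul_right 2 r) (hOodd _ o.2)
  have hodd : ∀ k ∈ K, ¬ 2 ∣ orderOf k → k ∈ O := by
    intro k hk hko
    obtain ⟨o, ho, b, hb, he⟩ := hprod k hk
    rw [he] at hko ⊢
    exact mem_of_coprime_order (S₀.2.to_le inf_le_left : IsPGroup 2 B) hOodd
      (fun b hb o ho => hOn b (mem_inf.mp hb).2 o ho) ho hb hko
  have hRodd : ∀ k ∈ (R : Subgroup G), ¬ 2 ∣ orderOf k := by
    intro k hk hd
    obtain ⟨j, hj⟩ := IsPGroup.iff_orderOf.mp R.2 ⟨k, hk⟩
    rw [Subgroup.orderOf_mk] at hj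
    rw [hj] at hd
    exact c.hr2 ((Nat.prime_dvd_prime_iff_eq Nat.prime_two c.hr).mp (Nat.prime_two.dvd_of_dvd_pow hd)).symm
  have hRO : O = (R : Subgroup G) := R.3 hOr fun k hk => hodd k (hRC hk) (hRodd k hk)
  refine ⟨R, fun u hu => ?_⟩
  have hstep : ∀ k ∈ O, u * k * u⁻¹ ∈ O := by
    intro k hk
    have hk1 : k * x = x * k := mem_cent.mp (hOK hk)
    refine hodd _ (mem_cent.mpr ?_) (by rw [CfsgLib.Involutions.orderOf_conj]; exact hOodd k hk)
    rcases hx.act u hu with e | e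
    · calc u * k * u⁻¹ * x = u * k * u⁻¹ * (u * x * u⁻¹) := by rw [e]
        _ = u * (k * x) * u⁻¹ := by group
        _ = (u * x * u⁻¹) * (u * k * u⁻¹) := by rw [hk1]; group
        _ = _ := by rw [e]
    · have e' : u * x⁻¹ * u⁻¹ = x := by
        rw [show u * x⁻¹ * u⁻¹ = (u * x * u⁻¹)⁻¹ by group, e, inv_inv]
      calc u * k * u⁻¹ * x = u * k * u⁻¹ * (u * x⁻¹ * u⁻¹) := by rw [e']
        _ = u * (k * x⁻¹) * u⁻¹ := by group
        _ = u * (x⁻¹ * k) * u⁻¹ := by rw [(show Commute k x from hk1).inv_right.eq]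
        _ = (u * x⁻¹ * u⁻¹) * (u * k * u⁻¹) := by group
        _ = _ := by rw [e']
  rw [← hRO, mem_normalizer_iff]
  intro k
  refine ⟨hstep k, fun hk => ?_⟩
  have h1 := hstep _ hk
  have e : u⁻¹ = u := inv_eq_of_mul_eq_one_right (c.sylow_sq S₀ hu)
  rwa [show u * (u * k * u⁻¹) * u⁻¹ = k by
    rw [e]; calc u * (u * k * u) * u = (u * u) * k * (u * u) := by group
      _ = k := by rw [c.sylow_sq S₀ hu]; simp] at h1

end TwoR

end CfsgLib.FiveOrbits
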