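import Cfsg.Agent.Lib.FiveOrbits.Centralizers

/-!
The configuration with element orders `1, 2, r, s, 2r` is impossible: more than half of the elements would have
order `s`.
-/

set_option autoImplicit false
set_option linter.unusedSectionVars false
set_option linter.style.haveILetI false

namespace CfsgLib.FiveOrbits

open Subgroup
open scoped Pointwise

universe u

variable {G : Type u} [Group G] [Finite G] {r s : ℕ}

theorem card_ne_one_add_one {A : Type u} [Group A] [Finite A] : Nat.card {a : A // a ≠ 1} + 1 = Nat.card A := by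
  classical
  haveI := Fintype.ofFinite A
  rw [Nat.card_eq_fintype_card, Nat.card_eq_fintype_card, Fintype.card_subtype_compl, Fintype.card_subtype_eq]
  have := Fintype.card_pos (α := A)
  omega

namespace TwoR

variable (c : TwoR G r s) [IsSimpleGroup G]

include c

theorem two_mul_card_s_lt : 2 * Nat.card {g : G // orderOf g = s} < Nat.card G := by
  classical
  haveI := Fact.mk c.hs
  haveI := Fintype.ofFinite (Sylow s G)
  have hch : ∀ g : {g : G // orderOf g = s}, ∃ T : Sylow s G, (g : G) ∈ (T : Subgroup G) ∧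
      ∀ k ∈ (T : Subgroup G), k * g = g * k := fun g => by
    obtain ⟨T, hT, hg⟩ := sylow_card_dvd_cent c.conj g.2
    exact ⟨T, hg, fun k hk => mem_cent.mp (hT hk)⟩
  choose T hgT hcen using hch
  obtain ⟨T₀⟩ : Nonempty (Sylow s G) := inferInstance
  let f : {g : G // orderOf g = s} → (U : Sylow s G) × {z : Subgroup.center (U : Subgroup G) // z ≠ 1} := fun g =>
    ⟨T g, ⟨⟨⟨g, hgT g⟩, Subgroup.mem_center_iff.mpr fun k => Subtype.ext (hcen g k k.2)⟩, fun e => by
      have h1 : (g : G) = 1 := congrArg (fun z : Subgroup.center (T g : Subgroup G) => ((z : (T g : Subgroup G)) : G)) e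
      exact c.hs.ne_one (by rw [← g.2, h1, orderOf_one])⟩⟩
  have hf : Function.Injective f := fun a b h => Subtype.ext
    (congrArg (fun p : (U : Sylow s G) × {z : Subgroup.center (U : Subgroup G) // z ≠ 1} => (((p.2.1 : (p.1 : Subgroup G))) : G)) h)
  have h1 := Nat.card_le_card_of_injective f hf
  rw [Nat.card_sigma] at h1
  have hZ : ∀ U : Sylow s G, Nat.card {z : Subgroup.center (U : Subgroup G) // z ≠ 1} + 1
      = Nat.card (Subgroup.center (T₀ : Subgroup G)) := fun U => by
    rw [card_ne_one_add_one]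
    exact Nat.card_congr (Subgroup.centerCongr (Sylow.equiv U T₀)).toEquiv
  have h2 : Nat.card {g : G // orderOf g = s} + Nat.card (Sylow s G)
      ≤ Nat.card (Sylow s G) * Nat.card (Subgroup.center (T₀ : Subgroup G)) := by
    refine (Nat.add_le_add_right h1 _).trans ?_
    rw [Nat.card_eq_fintype_card (α := Sylow s G), ← Finset.card_univ, Finset.card_eq_sum_ones,
      ← Finset.sum_add_distrib, Finset.sum_congr rfl fun U _ => hZ U, Finset.sum_const, Finset.sum_const]
    simp
  have hn : Nat.card (Sylow s G) = (normalizer ((T₀ : Subgroup G) : Set G)).index := T₀.card_eq_index_normalizer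
  have hNG := (normalizer ((T₀ : Subgroup G) : Set G)).card_mul_index
  rw [← hn] at hNG
  have hTN : Nat.card (T₀ : Subgroup G) ∣ Nat.card (normalizer ((T₀ : Subgroup G) : Set G)) :=
    card_dvd_of_le le_normalizer
  have hpos : 0 < Nat.card (Sylow s G) := Nat.card_pos
  obtain ⟨g₀, hg₀⟩ := c.exS
  by_cases hab : Subgroup.center (T₀ : Subgroup G) = ⊤
  · have hcomm : ∀ a ∈ (T₀ : Subgroup G), ∀ b ∈ (T₀ : Subgroup G), a * b = b * a := fun a ha b hb =>
      congrArg Subtype.val (Subgroup.mem_center_iff.mp (hab ▸ mem_top (⟨b, hb⟩ : (T₀ : Subgroup G))) ⟨a, ha⟩)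
    obtain ⟨n, hnN, hnT⟩ := exists_normalizer_notMem c.nonab (hg₀ ▸ orderOf_dvd_natCard g₀) T₀ hcomm
    obtain ⟨k, hk⟩ := hTN
    have hk2 : 2 ≤ k := by
      by_contra hlt
      have hk1 : k = 1 := by
        rcases Nat.eq_zero_or_pos k with rfl | h
        · have := Nat.card_pos (α := normalizer ((T₀ : Subgroup G) : Set G)); omega
        · omega
      rw [hk1, mul_one] at hk
      exact hnT ((Subgroup.eq_of_le_of_card_ge le_normalizer hk.le).ge hnN)
    rw [hab, Subgroup.card_top] at h2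
    have : 2 * (Nat.card (T₀ : Subgroup G) * Nat.card (Sylow s G)) ≤ Nat.card G := by
      rw [← hNG, hk]; nlinarith
    nlinarith
  · obtain ⟨k, hk⟩ := card_subgroup_dvd_card (Subgroup.center (T₀ : Subgroup G))
    have hk2 : 2 ≤ k := by
      by_contra hlt
      have hk1 : k = 1 := by
        rcases Nat.eq_zero_or_pos k with rfl | h
        · have := Nat.card_pos (α := (T₀ : Subgroup G)); omega
        · omega
      rw [hk1, mul_one] at hk
      exact hab (Subgroup.eq_top_of_card_eq _ hk.symm)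
    have hNle : Nat.card (T₀ : Subgroup G) ≤ Nat.card (normalizer ((T₀ : Subgroup G) : Set G)) :=
      Nat.le_of_dvd Nat.card_pos hTN
    have h3 : 2 * Nat.card (Subgroup.center (T₀ : Subgroup G)) ≤ Nat.card (T₀ : Subgroup G) := by
      rw [hk, mul_comm 2]; exact Nat.mul_le_mul_left _ hk2
    nlinarith

variable {x : G} {S₀ : Sylow 2 G} (hx : Special r x S₀)
include hx

theorem card_r_bound [Fact r.Prime] (R : Sylow r G)
    (hR : (S₀ : Subgroup G) ≤ normalizer ((R : Subgroup G) : Set G)) :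
    (Nat.card {g : G // orderOf g = r} + Nat.card (Sylow r G)) * Nat.card (S₀ : Subgroup G) ≤ Nat.card G := by
  classical
  haveI : Fact (Nat.Prime 2) := ⟨Nat.prime_two⟩
  haveI := Fintype.ofFinite (Sylow r G)
  have hch : ∀ g : {g : G // orderOf g = r}, ∃ U : Sylow r G, (g : G) ∈ (U : Subgroup G) := fun g => by
    obtain ⟨U, -, h⟩ := sylow_card_dvd_cent c.conj g.2
    exact ⟨U, h⟩
  choose U hU using hch
  let f : {g : G // orderOf g = r} → (V : Sylow r G) × {z : (V : Subgroup G) // z ≠ 1} := fun g =>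
    ⟨U g, ⟨⟨g, hU g⟩, fun e => c.hr.ne_one (by
      have h1 : (g : G) = 1 := congrArg Subtype.val e
      rw [← g.2, h1, orderOf_one])⟩⟩
  have hf : Function.Injective f := fun a b h => Subtype.ext
    (congrArg (fun p : (V : Sylow r G) × {z : (V : Subgroup G) // z ≠ 1} => (p.2.1 : G)) h)
  have h1 := Nat.card_le_card_of_injective f hf
  rw [Nat.card_sigma] at h1
  have hZ : ∀ V : Sylow r G, Nat.card {z : (V : Subgroup G) // z ≠ 1} + 1 = Nat.card (R : Subgroup G) := fun V => by
    rw [card_ne_one_add_one]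
    exact Nat.card_congr (Sylow.equiv V R).toEquiv
  have h2 : Nat.card {g : G // orderOf g = r} + Nat.card (Sylow r G)
      ≤ Nat.card (Sylow r G) * Nat.card (R : Subgroup G) := by
    refine (Nat.add_le_add_right h1 _).trans ?_
    rw [Nat.card_eq_fintype_card (α := Sylow r G), ← Finset.card_univ, Finset.card_eq_sum_ones,
      ← Finset.sum_add_distrib, Finset.sum_congr rfl fun V _ => hZ V, Finset.sum_const, Finset.sum_const]
    simp
  have hn : Nat.card (Sylow r G) = (normalizer ((R : Subgroup G) : Set G)).index := R.card_eq_index_normalizer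
  have hNG := (normalizer ((R : Subgroup G) : Set G)).card_mul_index
  rw [← hn] at hNG
  have hcop : Nat.Coprime (Nat.card (R : Subgroup G)) (Nat.card (S₀ : Subgroup G)) := by
    obtain ⟨i, hi⟩ := IsPGroup.iff_card.mp R.2
    obtain ⟨j, hj⟩ := IsPGroup.iff_card.mp S₀.2
    rw [hi, hj]
    exact Nat.coprime_pow_primes _ _ c.hr Nat.prime_two c.hr2
  have hdvd : Nat.card (R : Subgroup G) * Nat.card (S₀ : Subgroup G)
      ∣ Nat.card (normalizer ((R : Subgroup G) : Set G)) :=
    hcop.mul_dvd_of_dvd_of_dvd (card_dvd_of_le le_normalizer) (card_dvd_of_le hR)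
  have h3 := Nat.le_of_dvd Nat.card_pos hdvd
  calc (Nat.card {g : G // orderOf g = r} + Nat.card (Sylow r G)) * Nat.card (S₀ : Subgroup G)
      ≤ Nat.card (Sylow r G) * Nat.card (R : Subgroup G) * Nat.card (S₀ : Subgroup G) := Nat.mul_le_mul_right _ h2
    _ = Nat.card (Sylow r G) * (Nat.card (R : Subgroup G) * Nat.card (S₀ : Subgroup G)) := mul_assoc _ _ _
    _ ≤ Nat.card (Sylow r G) * Nat.card (normalizer ((R : Subgroup G) : Set G)) := Nat.mul_le_mul_left _ h3
    _ = Nat.card G := by rw [mul_comm, hNG]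

theorem card_even_bound :
    3 * Nat.card {g : G // 2 ∣ orderOf g} * Nat.card (S₀ : Subgroup G) + Nat.card G
      ≤ Nat.card (S₀ : Subgroup G) * Nat.card G := by
  classical
  haveI : Fact (Nat.Prime 2) := ⟨Nat.prime_two⟩
  obtain ⟨n, hnN, hn⟩ := c.exists_moving hx S₀
  have hgr : ∀ g : {g : G // 2 ∣ orderOf g}, orderOf ((g : G) ^ r) = 2 := fun g => by
    rw [orderOf_pow]
    rcases c.two_part g.2 with e | e <;> rw [e]
    · rw [Nat.Coprime.gcd_eq_one ((Nat.coprime_primes Nat.prime_two c.hr).mpr c.hr2.symm), Nat.div_one]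
    · rw [Nat.gcd_eq_right (dvd_mul_left r 2), Nat.mul_div_cancel _ c.hr.pos]
  have hh : ∀ t : {t : G // orderOf t = 2}, ∃ h : G, h * t * h⁻¹ ∈ (S₀ : Subgroup G) := fun t => by
    obtain ⟨T, hT⟩ := c.exists_sylow_mem t.2
    obtain ⟨h, hh⟩ := MulAction.exists_smul_eq G T S₀
    refine ⟨h, ?_⟩
    rw [← hh, Sylow.coe_subgroup_smul]
    exact Subgroup.smul_mem_pointwise_smul _ (MulAut.conj h) _ hT
  choose h hhS using hh
  let t : {g : G // 2 ∣ orderOf g} → {t : G // orderOf t = 2} := fun g => ⟨(g : G) ^ r, hgr g⟩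
  let σ : {g : G // 2 ∣ orderOf g} → G := fun g => h (t g) * (g : G) ^ r * (h (t g))⁻¹
  let k : {g : G // 2 ∣ orderOf g} → G := fun g => h (t g) * (g : G) ^ (r + 1) * (h (t g))⁻¹
  have hσS : ∀ g, σ g ∈ (S₀ : Subgroup G) := fun g => hhS (t g)
  have hσ1 : ∀ g, σ g ≠ 1 := fun g e => by
    have := hgr g
    rw [conj_eq_one_iff.mp e, orderOf_one] at this
    omega
  have hk : ∀ g, k g * σ g = σ g * k g := fun g => by
    calc k g * σ g = h (t g) * ((g : G) ^ (r + 1) * (g : G) ^ r) * (h (t g))⁻¹ := by simp only [k, σ]; group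
      _ = h (t g) * ((g : G) ^ r * (g : G) ^ (r + 1)) * (h (t g))⁻¹ := by rw [← pow_add, ← pow_add, add_comm]
      _ = _ := by simp only [k, σ]; group
  have hkodd : ∀ g, ¬ 2 ∣ orderOf (k g) := fun g hd => by
    simp only [k, CfsgLib.Involutions.orderOf_conj] at hd
    have h1 : ((g : G) ^ (r + 1)) ^ r = 1 := by
      obtain ⟨i, hi⟩ := (c.hr.odd_of_ne_two c.hr2)
      rw [← pow_mul]
      refine orderOf_dvd_iff_pow_eq_one.mp ?_
      rcases c.two_part g.2 with e | e <;> rw [e]
      · exact dvd_mul_of_dvd_left ⟨i + 1, by omega⟩ _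
      · exact ⟨i + 1, by rw [hi]; ring⟩
    exact c.hr2 ((Nat.prime_dvd_prime_iff_eq Nat.prime_two c.hr).mp (hd.trans (orderOf_dvd_of_pow_eq_one h1))).symm
  let Ψ : ({g : G // 2 ∣ orderOf g} × (S₀ : Subgroup G)) × Fin 3 →
      {a : (S₀ : Subgroup G) // a ≠ 1} × G := fun p =>
    (⟨⟨n ^ (p.2 : ℕ) * σ p.1.1 * (n ^ (p.2 : ℕ))⁻¹, (mem_normalizer_iff.mp (pow_mem hnN _) _).mp (hσS _)⟩,
      fun e => hσ1 _ (conj_eq_one_iff.mp (congrArg Subtype.val e))⟩,
      (h (t p.1.1))⁻¹ * (k p.1.1 * p.1.2) * (n ^ (p.2 : ℕ))⁻¹)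
  have hrec : ∀ (g : {g : G // 2 ∣ orderOf g}) (τ : (S₀ : Subgroup G)) (i : ℕ),
      ((h (t g))⁻¹ * (k g * τ) * (n ^ i)⁻¹) * (n ^ i * σ g * (n ^ i)⁻¹) *
        ((h (t g))⁻¹ * (k g * τ) * (n ^ i)⁻¹)⁻¹ = (g : G) ^ r := by
    intro g τ i
    have h1 : Commute (k g * (τ : G)) (σ g) := (show Commute (k g) (σ g) from hk g).mul_left
      (c.sylow_comm S₀ τ τ.2 _ (hσS g))
    calc _ = (h (t g))⁻¹ * ((k g * (τ : G)) * σ g * (k g * (τ : G))⁻¹) * h (t g) := by group
      _ = (h (t g))⁻¹ * σ g * h (t g) := by rw [(conj_eq_iff_mul _ _).mpr h1.eq]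
      _ = _ := by simp only [σ]; group
  have hΨ : Function.Injective Ψ := by
    rintro ⟨⟨g, τ⟩, i⟩ ⟨⟨g', τ'⟩, i'⟩ e
    simp only [Ψ, Prod.mk.injEq] at e
    obtain ⟨e1, e2⟩ := e
    have e1' : n ^ (i : ℕ) * σ g * (n ^ (i : ℕ))⁻¹ = n ^ (i' : ℕ) * σ g' * (n ^ (i' : ℕ))⁻¹ :=
      congrArg (fun a : {a : (S₀ : Subgroup G) // a ≠ 1} => (a.1 : G)) e1
    have hr' : (g : G) ^ r = (g' : G) ^ r := by
      rw [← hrec g τ (i : ℕ), ← hrec g' τ' (i' : ℕ), e1', e2]
    have ht : t g = t g' := Subtype.ext hr'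
    have hσ : σ g = σ g' := by simp only [σ, ht, hr']
    have hii : i = i' := by
      rw [← hσ] at e1'
      have key : ∀ i j : Fin 3, (i : ℕ) < (j : ℕ) →
          n ^ (i : ℕ) * σ g * (n ^ (i : ℕ))⁻¹ ≠ n ^ (j : ℕ) * σ g * (n ^ (j : ℕ))⁻¹ := by
        intro i j hij e
        obtain ⟨d, hd, hd0, hd3⟩ : ∃ d, (j : ℕ) = (i : ℕ) + d ∧ 0 < d ∧ d < 3 := ⟨(j : ℕ) - i, by omega, by omega, by omega⟩
        rw [hd, pow_add] at e
        have h3 : n ^ d * σ g * (n ^ d)⁻¹ = σ g := by
          calc n ^ d * σ g * (n ^ d)⁻¹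
              = (n ^ (i : ℕ))⁻¹ * ((n ^ (i : ℕ) * n ^ d) * σ g * (n ^ (i : ℕ) * n ^ d)⁻¹) * n ^ (i : ℕ) := by group
            _ = σ g := by rw [← e]; group
        have h4 := (conj_eq_iff_mul _ _).mp h3
        obtain ⟨h5, h6⟩ := hn (σ g) (hσS g) (hσ1 g)
        interval_cases d
        · exact h5 (by rwa [pow_one] at h4)
        · exact h6 h4
      rcases lt_trichotomy (i : ℕ) (i' : ℕ) with hl | hl | hl
      · exact absurd e1' (key i i' hl)
      · exact Fin.ext hl
      · exact absurd e1'.symm (key i' i hl)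
    subst hii
    rw [ht] at e2
    have e3 : k g * (τ : G) = k g' * (τ' : G) := mul_left_cancel (mul_right_cancel e2)
    obtain ⟨O, -, hOn, hOodd, hdec⟩ := c.cent_decomp hx S₀ (hσS g) (hσ1 g)
    have hmemO : ∀ y : G, y * σ g = σ g * y → ¬ 2 ∣ orderOf y → y ∈ O := by
      intro y hy hyo
      obtain ⟨o, ho, b, hb, rfl⟩ := hdec y (mem_cent.mpr hy)
      exact mem_of_coprime_order (p := 2) S₀.2 hOodd
        (fun b hb o ho => hOn b (c.sylow_le_cent S₀ (hσS g) hb) o ho) ho hb hyo
    have hk1 : k g ∈ O := hmemO _ (hk g) (hkodd g)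
    have hk2 : k g' ∈ O := hmemO _ (hσ ▸ hk g') (hkodd g')
    have h6 : (k g')⁻¹ * k g = (τ' : G) * (τ : G)⁻¹ := by
      calc (k g')⁻¹ * k g = (k g')⁻¹ * (k g * (τ : G)) * (τ : G)⁻¹ := by group
        _ = _ := by rw [e3]; group
    have h7 : (k g')⁻¹ * k g = 1 := by
      by_contra hne
      refine hOodd _ (mul_mem (inv_mem hk2) hk1) ?_
      rw [c.sylow_ord S₀ (h6 ▸ mul_mem τ'.2 (inv_mem τ.2)) hne]
    have hkk : k g = k g' := (inv_mul_eq_one.mp h7).symm
    have h9 : (g : G) ^ (r + 1) = (g' : G) ^ (r + 1) := by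
      simp only [k, ht] at hkk
      exact mul_left_cancel (mul_right_cancel hkk)
    rw [pow_succ, pow_succ, hr'] at h9
    obtain rfl : g = g' := Subtype.ext (mul_left_cancel h9)
    obtain rfl : τ = τ' := Subtype.ext (mul_left_cancel e3)
    rfl
  have := Nat.card_le_card_of_injective Ψ hΨ
  rw [Nat.card_prod, Nat.card_prod, Nat.card_prod, Nat.card_fin] at this
  have h2 := card_ne_one_add_one (A := (S₀ : Subgroup G))
  calc 3 * Nat.card {g : G // 2 ∣ orderOf g} * Nat.card (S₀ : Subgroup G) + Nat.card G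
      = Nat.card {g : G // 2 ∣ orderOf g} * Nat.card (S₀ : Subgroup G) * 3 + Nat.card G := by ring
    _ ≤ Nat.card {a : (S₀ : Subgroup G) // a ≠ 1} * Nat.card G + Nat.card G := Nat.add_le_add_right this _
    _ = _ := by rw [← h2]; ring

theorem false_special : False := by
  classical
  haveI : Fact (Nat.Prime 2) := ⟨Nat.prime_two⟩
  haveI := Fact.mk c.hr
  haveI := Fintype.ofFinite G
  obtain ⟨R, hR⟩ := c.exists_invariant_sylow hx
  have hR2 := c.card_r_bound hx R hR
  have hE := c.card_even_bound hx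
  have hS := c.two_mul_card_s_lt
  have hsplit : Nat.card G ≤ 1 + Nat.card {g : G // 2 ∣ orderOf g} + Nat.card {g : G // orderOf g = r} +
      Nat.card {g : G // orderOf g = s} := by
    simp only [Nat.card_eq_fintype_card, Fintype.card_subtype]
    rw [← Finset.card_univ (α := G)]
    calc (Finset.univ : Finset G).card
        ≤ (({1} : Finset G) ∪ Finset.univ.filter (fun g => 2 ∣ orderOf g) ∪
          Finset.univ.filter (fun g => orderOf g = r) ∪ Finset.univ.filter (fun g => orderOf g = s)).card := by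
          refine Finset.card_le_card fun g _ => ?_
          simp only [Finset.mem_union, Finset.mem_singleton, Finset.mem_filter, Finset.mem_univ, true_and]
          rcases c.orders g with e | e | e | e | e
          · exact Or.inl (Or.inl (Or.inl (orderOf_eq_one_iff.mp e)))
          · exact Or.inl (Or.inl (Or.inr (e ▸ dvd_rfl)))
          · exact Or.inl (Or.inr e)
          · exact Or.inr e
          · exact Or.inl (Or.inl (Or.inr (e ▸ dvd_mul_right 2 r)))
      _ ≤ _ := by
          refine (Finset.card_union_le _ _).trans (Nat.add_le_add_right ((Finset.card_union_le _ _).trans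
            (Nat.add_le_add_right ((Finset.card_union_le _ _).trans ?_) _)) _)
          simp
  have hn2 : 2 ≤ Nat.card (Sylow r G) := by
    by_contra hlt
    have h1 : Nat.card (Sylow r G) = 1 := by have := Nat.card_pos (α := Sylow r G); omega
    have h0 : (normalizer ((R : Subgroup G) : Set G)).index = 1 := R.card_eq_index_normalizer.symm.trans h1
    replace h1 : (R : Subgroup G).Normal := normalizer_eq_top_iff.mp (Subgroup.index_eq_one.mp h0)
    obtain ⟨g, hg⟩ := c.exists_r
    have hd := R.dvd_card_of_dvd_card (hg ▸ orderOf_dvd_natCard g)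
    obtain ⟨g', hg'⟩ := c.exS
    rcases Subgroup.Normal.eq_bot_or_eq_top h1 with e | e
    · rw [e, card_bot] at hd; exact c.hr.not_dvd_one hd
    · obtain ⟨i, hi⟩ := IsPGroup.iff_orderOf.mp R.2 ⟨g', e ▸ mem_top g'⟩
      rw [Subgroup.orderOf_mk, hg'] at hi
      exact c.hrs ((Nat.prime_dvd_prime_iff_eq c.hs c.hr).mp (c.hs.dvd_of_dvd_pow hi.dvd)).symm
  have h4 : 4 ≤ Nat.card (S₀ : Subgroup G) := by
    obtain ⟨n, hnN, hn⟩ := c.exists_moving hx S₀
    obtain ⟨t, ht, ht1⟩ := (S₀ : Subgroup G).bot_or_exists_ne_one.resolve_left (c.sylow_ne_bot S₀)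
    have hne : n * t * n⁻¹ ≠ t := fun e => (hn t ht ht1).1 ((conj_eq_iff_mul n t).mp e)
    haveI := Fintype.ofFinite (S₀ : Subgroup G)
    have h3 : ({1, ⟨t, ht⟩, ⟨n * t * n⁻¹, (mem_normalizer_iff.mp hnN t).mp ht⟩} :
        Finset (S₀ : Subgroup G)).card = 3 := by
      refine Finset.card_eq_three.mpr ⟨_, _, _, ?_, ?_, ?_, rfl⟩
      · exact fun e => ht1 (congrArg Subtype.val e).symm
      · exact fun e => ht1 (conj_eq_one_iff.mp (congrArg Subtype.val e).symm)
      · exact fun e => hne (congrArg Subtype.val e).symm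
    have h5 := Finset.card_le_univ ({1, ⟨t, ht⟩, ⟨n * t * n⁻¹, (mem_normalizer_iff.mp hnN t).mp ht⟩} :
        Finset (S₀ : Subgroup G))
    rw [h3, ← Nat.card_eq_fintype_card] at h5
    obtain ⟨j, hj⟩ := IsPGroup.iff_card.mp S₀.2
    rw [hj] at h5 ⊢
    match j, h5 with
    | 0, h5 => simp at h5
    | 1, h5 => simp at h5
    | j + 2, _ =>
      rw [pow_add]
      have := Nat.one_le_two_pow (n := j)
      omega
  generalize Nat.card {g : G // 2 ∣ orderOf g} = e at *
  generalize Nat.card {g : G // orderOf g = r} = a at *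
  generalize Nat.card {g : G // orderOf g = s} = b at *
  generalize Nat.card (S₀ : Subgroup G) = S at *
  generalize Nat.card (Sylow r G) = n at *
  generalize Nat.card G = g at *
  have h5 : g + 1 ≤ 2 * (1 + e + a) := by omega
  have h6 := Nat.mul_le_mul_left (3 * S) h5
  have h7 : 4 * g ≤ S * g := Nat.mul_le_mul_right g h4
  nlinarith

end TwoR

/-- No simple group has the element orders `1, 2, r, s, 2r` with automorphisms transitive on each order. -/
theorem false_two_r [IsSimpleGroup G] (c : TwoR G r s) : False := by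
  by_cases h : CentNormalizes G
  · exact c.false_embedded h
  · obtain ⟨x, S, hx⟩ := c.exists_special h
    exact c.false_special hx

end CfsgLib.FiveOrbits
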