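import Cfsg.Agent.Lib.FiveOrbits.Setup

/-!
The configuration with element orders `1, 2, r, s, 2r` in which every involution centraliser normalises its Sylow
two-subgroup: impossible.
-/

set_option autoImplicit false
set_option linter.unusedSectionVars false
set_option linter.style.haveILetI false

namespace CfsgLib.FiveOrbits

open Subgroup
open scoped Pointwise

universe u

variable {G : Type u} [Group G] [Finite G] {r s : ℕ}

/-- Involution centralisers normalise Sylow two-subgroups. -/
def CentNormalizes (G : Type u) [Group G] : Prop :=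
  ∀ S : Sylow 2 G, ∀ t ∈ (S : Subgroup G), t ≠ 1 →
    centralizer ({t} : Set G) ≤ normalizer ((S : Subgroup G) : Set G)

namespace TwoR

variable (c : TwoR G r s) [IsSimpleGroup G] (hI : CentNormalizes G)

include c

theorem mem_of_two (S : Sylow 2 G) {v : G} (hv : v ∈ normalizer ((S : Subgroup G) : Set G))
    (h : orderOf v = 2) : v ∈ (S : Subgroup G) := by
  haveI : Fact (Nat.Prime 2) := ⟨Nat.prime_two⟩
  have hp : IsPGroup 2 (zpowers v) := IsPGroup.of_card (n := 1) (by rw [Nat.card_zpowers, h, pow_one])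
  have h1 := IsPGroup.to_sup_of_normal_right' hp S.2 (zpowers_le.mpr hv)
  rw [← S.3 h1 le_sup_right]
  exact mem_sup_left (mem_zpowers v)

include hI

theorem eq_of_common (S T : Sylow 2 G) {t : G} (hS : t ∈ (S : Subgroup G)) (hT : t ∈ (T : Subgroup G))
    (h1 : t ≠ 1) : T = S := by
  haveI : Fact (Nat.Prime 2) := ⟨Nat.prime_two⟩
  exact sylow_eq_of_le_normalizer T S ((c.sylow_le_cent T hT).trans (hI S t hS h1))

theorem cent_mem (S : Sylow 2 G) {t w : G} (ht : t ∈ (S : Subgroup G)) (ht1 : t ≠ 1) (hw : orderOf w = 2)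
    (hc : w * t = t * w) : w ∈ (S : Subgroup G) :=
  c.mem_of_two S (hI S t ht ht1 (mem_cent.mpr hc)) hw

theorem near (S : Sylow 2 G) {t v : G} (ht : t ∈ (S : Subgroup G)) (ht1 : t ≠ 1) (hv : orderOf v = 2)
    (he : Even (orderOf (t * v))) : v ∈ (S : Subgroup G) := by
  have h2 := c.sylow_sq S ht
  have hv2 := CfsgLib.Involutions.mul_self_eq_one_of_orderOf hv
  obtain ⟨ha, hb⟩ := CfsgLib.Involutions.central_half h2 hv2 he
  have hw := CfsgLib.Involutions.orderOf_half he
  have hwS := c.cent_mem hI S ht ht1 hw ha.eq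
  refine c.cent_mem hI S hwS (fun e => ?_) hv hb.symm.eq
  rw [e, orderOf_one] at hw
  omega

theorem no_r_inverted {d u : G} (hd : orderOf d = r) (hu : orderOf u = 2) (hi : u * d * u⁻¹ = d⁻¹) : False := by
  have hr2 := c.hr2
  obtain ⟨v, hv, hvd⟩ := c.exists_invol_commute hd
  have hu2 := CfsgLib.Involutions.mul_self_eq_one_of_orderOf hu
  have hv2 := CfsgLib.Involutions.mul_self_eq_one_of_orderOf hv
  have hdd : d⁻¹ ≠ d := fun e => by
    have h1 : d ^ 2 = 1 := by rw [pow_two]; exact mul_eq_one_iff_eq_inv.mpr e.symm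
    have := (Nat.dvd_prime Nat.prime_two).mp (hd ▸ orderOf_dvd_of_pow_eq_one h1)
    rcases this with h | h
    · exact c.hr.ne_one h
    · exact hr2 h
  by_cases he : Even (orderOf (v * u))
  · obtain ⟨S, hvS⟩ := c.exists_sylow_mem hv
    have hv1 : v ≠ 1 := fun e => by rw [e, orderOf_one] at hv; omega
    have huS := c.near hI S hvS hv1 hu he
    have hdN : d ∈ normalizer ((S : Subgroup G) : Set G) := hI S v hvS hv1 (mem_cent.mpr hvd.symm)
    have h3 : d * u * d⁻¹ * u⁻¹ ∈ (S : Subgroup G) :=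
      mul_mem ((mem_normalizer_iff.mp hdN u).mp huS) (inv_mem huS)
    have h4 : d * u * d⁻¹ * u⁻¹ = d * d := by
      calc d * u * d⁻¹ * u⁻¹ = d * (u * d * u⁻¹)⁻¹ := by group
        _ = d * d := by rw [hi, inv_inv]
    rw [h4, ← pow_two] at h3
    have h5 : orderOf (d ^ 2) = r := by
      rw [Nat.Coprime.orderOf_pow]
      · exact hd
      · rw [hd]; exact (Nat.coprime_primes c.hr Nat.prime_two).mpr hr2
    have h6 := c.sylow_sq S h3
    rw [← pow_two] at h6
    rcases (Nat.dvd_prime Nat.prime_two).mp (h5 ▸ orderOf_dvd_of_pow_eq_one h6) with h | h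
    · exact c.hr.ne_one h
    · exact hr2 h
  · -- conjugation by the product inverts, and its order is odd
    obtain ⟨k, hk⟩ := Nat.not_even_iff_odd.mp he
    have hstep : ∀ y : G, y = d ∨ y = d⁻¹ → (v * u) * y * (v * u)⁻¹ = y⁻¹ := by
      have hvd' : v * d * v⁻¹ = d := (conj_eq_iff_mul v d).mpr hvd
      have h1 : (v * u) * d * (v * u)⁻¹ = d⁻¹ := by
        calc (v * u) * d * (v * u)⁻¹ = v * (u * d * u⁻¹) * v⁻¹ := by group
          _ = (v * d * v⁻¹)⁻¹ := by rw [hi]; group
          _ = d⁻¹ := by rw [hvd']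
      rintro y (rfl | rfl)
      · exact h1
      · calc (v * u) * d⁻¹ * (v * u)⁻¹ = ((v * u) * d * (v * u)⁻¹)⁻¹ := by group
          _ = _ := by rw [h1]
    have key : ∀ n : ℕ, (v * u) ^ (2 * n) * d * ((v * u) ^ (2 * n))⁻¹ = d := by
      intro n
      induction n with
      | zero => simp
      | succ n ih =>
        calc (v * u) ^ (2 * (n + 1)) * d * ((v * u) ^ (2 * (n + 1)))⁻¹
            = (v * u) * ((v * u) * ((v * u) ^ (2 * n) * d * ((v * u) ^ (2 * n))⁻¹) * (v * u)⁻¹) * (v * u)⁻¹ := by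
              rw [show 2 * (n + 1) = 2 * n + 1 + 1 by ring, pow_succ', pow_succ']
              generalize v * u = w
              group
          _ = d := by rw [ih, hstep d (Or.inl rfl), hstep d⁻¹ (Or.inr rfl), inv_inv]
    have h1 : (v * u) ^ (2 * k + 1) * d * ((v * u) ^ (2 * k + 1))⁻¹ = d⁻¹ := by
      calc (v * u) ^ (2 * k + 1) * d * ((v * u) ^ (2 * k + 1))⁻¹
          = (v * u) * ((v * u) ^ (2 * k) * d * ((v * u) ^ (2 * k))⁻¹) * (v * u)⁻¹ := by
            rw [pow_succ']
            generalize v * u = w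
            group
        _ = d⁻¹ := by rw [key, hstep d (Or.inl rfl)]
    rw [← hk, pow_orderOf_eq_one, one_mul, inv_one, mul_one] at h1
    exact hdd h1.symm

theorem r_part (S : Sylow 2 G) : ¬ r ∣ (normalizer ((S : Subgroup G) : Set G)).index := by
  haveI : Fact (Nat.Prime 2) := ⟨Nat.prime_two⟩
  haveI := Fact.mk c.hr
  obtain ⟨x, hx⟩ := c.exists_r
  obtain ⟨v, hv, hvx⟩ := c.exists_invol_commute hx
  obtain ⟨T, hvT⟩ := c.exists_sylow_mem hv
  have hv1 : v ≠ 1 := fun e => by rw [e, orderOf_one] at hv; omega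
  have hle : centralizer ({x} : Set G) ≤ normalizer ((T : Subgroup G) : Set G) := by
    intro g hg
    have hgx : g * x = x * g := mem_cent.mp hg
    have hv' : orderOf (g * v * g⁻¹) = 2 := by rw [CfsgLib.Involutions.orderOf_conj, hv]
    have hv'x : (g * v * g⁻¹) * x = x * (g * v * g⁻¹) := by
      have h1 : Commute g x := hgx
      exact ((h1.mul_left (show Commute v x from hvx)).mul_left h1.inv_left).eq
    have hmem : g * v * g⁻¹ ∈ (T : Subgroup G) := by
      by_cases he : Even (orderOf (v * (g * v * g⁻¹)))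
      · exact c.near hI T hvT hv1 hv' he
      rcases c.orders (v * (g * v * g⁻¹)) with e | e | e | e | e
      · have h1 : g * v * g⁻¹ = v := by
          have h2 := orderOf_eq_one_iff.mp e
          rw [← inv_eq_of_mul_eq_one_right h2, inv_eq_of_mul_eq_one_right
            (CfsgLib.Involutions.mul_self_eq_one_of_orderOf hv)]
        rwa [h1]
      · exact absurd (e ▸ even_two) he
      · exact (c.no_r_inverted hI e hv (CfsgLib.Involutions.conj_mul_eq_inv
          (CfsgLib.Involutions.mul_self_eq_one_of_orderOf hv) (CfsgLib.Involutions.mul_self_eq_one_of_orderOf hv'))).elim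
      · exact (c.not_commute_s (Or.inr hx) e
          ((show Commute x v from hvx.symm).mul_right (show Commute x (g * v * g⁻¹) from hv'x.symm))).elim
      · exact absurd (e ▸ even_two_mul r) he
    have h3 : g * v * g⁻¹ ∈ ((g • T : Sylow 2 G) : Subgroup G) := by
      rw [Sylow.coe_subgroup_smul]
      exact Subgroup.smul_mem_pointwise_smul v (MulAut.conj g) _ hvT
    have h4 : g • T = T := c.eq_of_common hI T (g • T) hmem h3
      (fun e => by rw [e, orderOf_one] at hv'; omega)
    exact Sylow.smul_eq_iff_mem_normalizer.mp h4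
  obtain ⟨R, hR, -⟩ := sylow_card_dvd_cent c.conj hx
  have h := not_dvd_index_of_sylow_le R (hR.trans hle)
  have e1 := Sylow.card_eq_index_normalizer (P := S)
  have e2 := Sylow.card_eq_index_normalizer (P := T)
  have e3 : (normalizer ((S : Subgroup G) : Set G)).index = (normalizer ((T : Subgroup G) : Set G)).index :=
    e1.symm.trans e2
  rw [e3]
  exact h

theorem false_embedded : False := by
  classical
  haveI : Fact (Nat.Prime 2) := ⟨Nat.prime_two⟩
  haveI := Fact.mk c.hr
  haveI := Fact.mk c.hs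
  haveI := Fintype.ofFinite G
  obtain ⟨S⟩ : Nonempty (Sylow 2 G) := inferInstance
  set M := normalizer ((S : Subgroup G) : Set G) with hM
  set m := Nat.card (S : Subgroup G) - 1 with hm
  obtain ⟨t, htS, ht1⟩ := (S : Subgroup G).bot_or_exists_ne_one.resolve_left fun e => by
    have := S.dvd_card_of_dvd_card c.two_dvd
    rw [e, card_bot] at this
    exact Nat.prime_two.not_dvd_one this
  have hMtop : M ≠ ⊤ := by
    intro e
    haveI : (S : Subgroup G).Normal := normalizer_eq_top_iff.mp e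
    rcases Subgroup.Normal.eq_bot_or_eq_top (inferInstance : (S : Subgroup G).Normal) with h | h
    · rw [h] at htS; exact ht1 (mem_bot.mp htS)
    · exact c.nonab ⟨⟨fun a b => c.sylow_comm S a (h ▸ mem_top a) b (h ▸ mem_top b)⟩⟩
  -- the coset with many involutions
  let Iv : Finset G := Finset.univ.filter fun v => orderOf v = 2 ∧ v ∉ M
  let Q := (G ⧸ M)
  haveI : Fintype (G ⧸ M) := Fintype.ofFinite _
  let A : Finset (G ⧸ M) := Finset.univ.erase ((1 : G) : G ⧸ M)
  have hA : A.card = M.index - 1 := by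
    rw [Finset.card_erase_of_mem (Finset.mem_univ _), Finset.card_univ, ← Nat.card_eq_fintype_card]
    rfl
  have hidx : 1 < M.index := Subgroup.one_lt_index_of_ne_top hMtop
  have hA0 : A.Nonempty := Finset.card_pos.mp (by omega)
  have hmap : ∀ v ∈ Iv, ((v : G) : G ⧸ M) ∈ A := by
    intro v hv
    refine Finset.mem_erase.mpr ⟨fun e => ?_, Finset.mem_univ _⟩
    have := QuotientGroup.eq.mp e
    rw [mul_one] at this
    exact (Finset.mem_filter.mp hv).2.2 (by simpa using inv_mem this)
  have hIv : A.card * m ≤ Iv.card := by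
    let T := {U : Sylow 2 G // U ≠ S}
    let f : T × {a : (S : Subgroup G) // a ≠ 1} → {v : G // v ∈ Iv} := fun p => by
      refine ⟨((Sylow.equiv S p.1.1) p.2.1 : (p.1.1 : Subgroup G)), ?_⟩
      have hne : ((Sylow.equiv S p.1.1) p.2.1 : (p.1.1 : Subgroup G)) ≠ 1 := fun e =>
        p.2.2 ((Sylow.equiv S p.1.1).map_eq_one_iff.mp e)
      have hne' : (((Sylow.equiv S p.1.1) p.2.1 : (p.1.1 : Subgroup G)) : G) ≠ 1 := fun e => hne (Subtype.ext e)
      have ho := c.sylow_ord p.1.1 ((Sylow.equiv S p.1.1) p.2.1).2 hne'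
      exact Finset.mem_filter.mpr ⟨Finset.mem_univ _, ho, fun h => p.1.2
        (c.eq_of_common hI S p.1.1 (c.mem_of_two S h ho) ((Sylow.equiv S p.1.1) p.2.1).2 hne')⟩
    have hf : Function.Injective f := by
      rintro ⟨⟨U, hU⟩, ⟨a, ha⟩⟩ ⟨⟨U', hU'⟩, ⟨b, hb⟩⟩ h
      have h' : (((Sylow.equiv S U) a : (U : Subgroup G)) : G) = (((Sylow.equiv S U') b : (U' : Subgroup G)) : G) :=
        congrArg Subtype.val h
      have hUU : U' = U := by
        refine c.eq_of_common hI U U' ((Sylow.equiv S U) a).2 (h' ▸ ((Sylow.equiv S U') b).2) fun e => ?_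
        exact ha ((Sylow.equiv S U).map_eq_one_iff.mp (Subtype.ext e))
      subst hUU
      have := (Sylow.equiv S U').injective (Subtype.ext h')
      subst this
      rfl
    have := Nat.card_le_card_of_injective f hf
    have h2 : Nat.card T = A.card := by
      rw [hA, show M.index = Nat.card (Sylow 2 G) from (Sylow.card_eq_index_normalizer (P := S)).symm]
      haveI := Fintype.ofFinite (Sylow 2 G)
      rw [Nat.card_eq_fintype_card, Fintype.card_subtype_compl, Fintype.card_subtype_eq, Nat.card_eq_fintype_card]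
    have h3 : Nat.card {a : (S : Subgroup G) // a ≠ 1} = m := by
      haveI := Fintype.ofFinite (S : Subgroup G)
      rw [hm, Nat.card_eq_fintype_card, Fintype.card_subtype_compl, Fintype.card_subtype_eq,
        Nat.card_eq_fintype_card]
    rw [Nat.card_prod, h2, h3, Nat.card_eq_finsetCard] at this
    exact this
  obtain ⟨q, hq, hqm⟩ := Finset.exists_le_card_fiber_of_mul_le_card_of_maps_to hmap hA0 hIv
  set F := Iv.filter fun v => ((v : G) : G ⧸ M) = q
  have hFne : F.Nonempty := by
    refine Finset.card_pos.mp (lt_of_lt_of_le ?_ hqm)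
    have : 1 < Nat.card (S : Subgroup G) :=
      Finite.one_lt_card_iff_nontrivial.mpr ((Subgroup.nontrivial_iff_ne_bot _).mpr fun e => by
        rw [e] at htS; exact ht1 (mem_bot.mp htS))
    omega
  obtain ⟨u, huF⟩ := hFne
  obtain ⟨hu, huM⟩ := (Finset.mem_filter.mp (Finset.mem_filter.mp huF).1).2
  have hu2 := CfsgLib.Involutions.mul_self_eq_one_of_orderOf hu
  -- the elements inverted by `u`
  set D : Subgroup G := M ⊓ (MulAut.conj u • M) with hD
  have hDn : ∀ k ∈ D, u * k * u⁻¹ ∈ D := by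
    intro k hk
    obtain ⟨h1, h2⟩ := mem_inf.mp hk
    rw [Subgroup.mem_pointwise_smul_iff_inv_smul_mem, MulAut.smul_def, MulAut.conj_inv_apply] at h2
    have hinv : u⁻¹ = u := inv_eq_of_mul_eq_one_right hu2
    refine mem_inf.mpr ⟨by rw [hinv] at h2 ⊢; exact h2, ?_⟩
    rw [Subgroup.mem_pointwise_smul_iff_inv_smul_mem, MulAut.smul_def, MulAut.conj_inv_apply]
    have : u⁻¹ * (u * k * u⁻¹) * u = k := by group
    rwa [this]
  have hDodd : ∀ k ∈ D, ¬ 2 ∣ orderOf k := by
    intro k hk hd
    obtain ⟨j, hj⟩ := exists_orderOf_of_dvd hd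
    have hkD := pow_mem hk j
    set w := k ^ j
    have hwS := c.mem_of_two S (mem_inf.mp hkD).1 hj
    have hw'S := c.mem_of_two S (mem_inf.mp (hDn w hkD)).1 (by rw [CfsgLib.Involutions.orderOf_conj, hj])
    have h3 : u * w * u⁻¹ ∈ ((u • S : Sylow 2 G) : Subgroup G) := by
      rw [Sylow.coe_subgroup_smul]
      exact Subgroup.smul_mem_pointwise_smul w (MulAut.conj u) _ hwS
    exact huM (Sylow.smul_eq_iff_mem_normalizer.mp (c.eq_of_common hI S (u • S) hw'S h3
      (fun e => by
        have : orderOf (u * w * u⁻¹) = 2 := by rw [CfsgLib.Involutions.orderOf_conj, hj]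
        rw [e, orderOf_one] at this; omega)))
  have hDinv : ∀ k ∈ D, u * k * u⁻¹ = k⁻¹ → k ≠ 1 → orderOf k = s := by
    intro k hk hi hk1
    rcases c.orders k with e | e | e | e | e
    · exact absurd (orderOf_eq_one_iff.mp e) hk1
    · exact absurd e.symm.dvd (hDodd k hk)
    · exact (c.no_r_inverted hI e hu hi).elim
    · exact e
    · exact absurd (e ▸ dvd_mul_right 2 r) (hDodd k hk)
  have hdel : ∀ v ∈ F, u * v ∈ D ∧ u * (u * v) * u⁻¹ = (u * v)⁻¹ := by
    intro v hv
    obtain ⟨hv', hvq⟩ := Finset.mem_filter.mp hv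
    obtain ⟨hvo, -⟩ := (Finset.mem_filter.mp hv').2
    have hv2 := CfsgLib.Involutions.mul_self_eq_one_of_orderOf hvo
    have hi := CfsgLib.Involutions.conj_mul_eq_inv hu2 hv2
    have hmem : u * v ∈ M := by
      have := QuotientGroup.eq.mp ((Finset.mem_filter.mp huF).2.trans hvq.symm)
      rwa [inv_eq_of_mul_eq_one_right hu2] at this
    refine ⟨mem_inf.mpr ⟨hmem, ?_⟩, hi⟩
    rw [Subgroup.mem_pointwise_smul_iff_inv_smul_mem, MulAut.smul_def, MulAut.conj_inv_apply,
      inv_eq_of_mul_eq_one_right hu2]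
    have h1 := inv_mem hmem
    rw [← hi, inv_eq_of_mul_eq_one_right hu2] at h1
    exact h1
  -- the inverted elements generate an `s`-core with abelian Sylow subgroups
  obtain ⟨v₀, hv₀, hv₀u⟩ : ∃ v ∈ F, v ≠ u := by
    by_contra h
    push Not at h
    have hF1 : F.card ≤ 1 := Finset.card_le_one.mpr fun a ha b hb => (h a ha).trans (h b hb).symm
    obtain ⟨n, hn, hnS⟩ := exists_normalizer_notMem c.nonab c.two_dvd S (c.sylow_comm S)
    have hm1 : m = 1 := by
      have : 1 < Nat.card (S : Subgroup G) :=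
        Finite.one_lt_card_iff_nontrivial.mpr ((Subgroup.nontrivial_iff_ne_bot _).mpr fun e => by
          rw [e] at htS; exact ht1 (mem_bot.mp htS))
      omega
    -- a subgroup of order two is centralised by its normaliser
    have hS2 : ∀ a ∈ (S : Subgroup G), a = 1 ∨ a = t := by
      intro a ha
      haveI := Fintype.ofFinite (S : Subgroup G)
      by_contra hne
      push Not at hne
      have h3 : ({1, ⟨t, htS⟩, ⟨a, ha⟩} : Finset (S : Subgroup G)).card = 3 := by
        refine Finset.card_eq_three.mpr ⟨_, _, _, ?_, ?_, ?_, rfl⟩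
        · exact fun e => ht1 (congrArg Subtype.val e).symm
        · exact fun e => hne.1 (congrArg Subtype.val e).symm
        · exact fun e => hne.2 (congrArg Subtype.val e).symm
      have h4 := Finset.card_le_univ ({1, ⟨t, htS⟩, ⟨a, ha⟩} : Finset (S : Subgroup G))
      rw [h3, ← Nat.card_eq_fintype_card] at h4
      omega
    refine hnS (c.cent_sylow S fun a ha => ?_)
    rcases hS2 a ha with rfl | rfl
    · simp
    · have h1 := (mem_normalizer_iff.mp hn a).mp htS
      rcases hS2 _ h1 with e | e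
      · exact absurd (conj_eq_one_iff.mp e) ht1
      · exact (conj_eq_iff_mul n a).mp e
  have hy : orderOf (u * v₀) = s := hDinv _ (hdel v₀ hv₀).1 (hdel v₀ hv₀).2 fun e => hv₀u (by
    rw [← inv_eq_of_mul_eq_one_right e, inv_eq_of_mul_eq_one_right hu2])
  set y := u * v₀
  have hyi : u * y * u⁻¹ = y⁻¹ := (hdel v₀ hv₀).2
  -- Sylow subgroups for `s` are abelian
  have hCy : ∀ a ∈ centralizer ({y} : Set G), ∀ b ∈ centralizer ({y} : Set G), a * b = b * a := by
    refine (fpf_invert hu2 _ (fun k hk => ?_) (fun k hk huk => ?_)).2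
    · rw [mem_cent] at hk ⊢
      have h1 : u * y⁻¹ * u⁻¹ = y := by
        rw [show u * y⁻¹ * u⁻¹ = (u * y * u⁻¹)⁻¹ by group, hyi, inv_inv]
      calc u * k * u⁻¹ * y = u * k * u⁻¹ * (u * y⁻¹ * u⁻¹) := by rw [h1]
        _ = u * (k * y⁻¹) * u⁻¹ := by group
        _ = u * (y⁻¹ * k) * u⁻¹ := by rw [(show Commute k y from hk).inv_right.eq]
        _ = (u * y⁻¹ * u⁻¹) * (u * k * u⁻¹) := by group
        _ = _ := by rw [h1]
    · by_contra hk1
      have hky : Commute k y := mem_cent.mp hk
      rcases c.orders k with e | e | e | e | e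
      · exact hk1 (orderOf_eq_one_iff.mp e)
      · exact c.not_commute_s (Or.inl e) hy hky
      · exact c.not_commute_s (Or.inr e) hy hky
      · exact c.not_commute_s (Or.inl hu) e huk
      · obtain ⟨i, hi⟩ := exists_orderOf_of_dvd (g := k) (m := r) (e ▸ dvd_mul_left r 2)
        exact c.not_commute_s (Or.inr hi) hy (hky.pow_left i)
  have hab : ∀ T : Sylow s G, ∀ a ∈ (T : Subgroup G), ∀ b ∈ (T : Subgroup G), a * b = b * a := by
    obtain ⟨R, hR, -⟩ := sylow_card_dvd_cent c.conj hy
    intro T a ha b hb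
    have e := Sylow.equiv T R
    have h1 : e ⟨a, ha⟩ * e ⟨b, hb⟩ = e ⟨b, hb⟩ * e ⟨a, ha⟩ := Subtype.ext (hCy _ (hR (e ⟨a, ha⟩).2) _ (hR (e ⟨b, hb⟩).2))
    rw [← map_mul, ← map_mul] at h1
    exact congrArg Subtype.val (e.injective h1)
  have hDsol : Group.IsSolvable D := by
    refine CfsgLib.CharTheory.isSolvable_of_card_two_primes (p := r) (q := s) c.hr c.hs
      (a := (Nat.card D).factorization r) (b := (Nat.card D).factorization s) ?_
    have hne := (Nat.card_pos (α := D)).ne'
    refine Nat.eq_of_factorization_eq hne (mul_ne_zero (pow_ne_zero _ c.hr.ne_zero) (pow_ne_zero _ c.hs.ne_zero))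
      fun ℓ => ?_
    rw [Nat.factorization_mul (pow_ne_zero _ c.hr.ne_zero) (pow_ne_zero _ c.hs.ne_zero), c.hs.factorization_pow,
      c.hr.factorization_pow, Finsupp.add_apply, Finsupp.single_apply, Finsupp.single_apply]
    by_cases hl : ℓ.Prime ∧ ℓ ∣ Nat.card D
    · obtain ⟨k, hk, hko⟩ := prime_of_dvd_card hl.1 hl.2
      rcases c.prime_cases hl.1 hko.symm.dvd with e | e | e
      · subst e; exact absurd hko.symm.dvd (hDodd k hk)
      · subst e; simp [c.hrs.symm]
      · subst e; simp [c.hrs]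
    · have : (Nat.card D).factorization ℓ = 0 := by
        rw [Nat.factorization_eq_zero_iff]
        tauto
      rw [this]
      split_ifs with h1 h2 <;> subst_vars <;> simp_all
  -- no core for `r`
  have hcore : Cfsg.pPrimeCore s D = ⊥ := by
    by_contra hne
    obtain ⟨z, hz, hz1⟩ := (Cfsg.pPrimeCore s D).bot_or_exists_ne_one.resolve_left hne
    let uD : MulAut D := {
      toFun := fun k => ⟨u * k * u⁻¹, hDn _ k.2⟩
      invFun := fun k => ⟨u * k * u⁻¹, hDn _ k.2⟩
      left_inv := fun k => Subtype.ext (by simp [inv_eq_of_mul_eq_one_right hu2, mul_assoc, hu2, ← mul_assoc u u])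
      right_inv := fun k => Subtype.ext (by simp [inv_eq_of_mul_eq_one_right hu2, mul_assoc, hu2, ← mul_assoc u u])
      map_mul' := fun a b => Subtype.ext (by simp [mul_assoc]) }
    have hchar : ∀ k ∈ Cfsg.pPrimeCore s D, uD k ∈ Cfsg.pPrimeCore s D := fun k hk =>
      (CfsgLib.pPrimeCore_map_equiv s uD).le ⟨k, hk, rfl⟩
    have hfix : ∀ k ∈ Cfsg.pPrimeCore s D, uD k = k := by
      intro k hk
      have hmem := mul_mem (inv_mem hk) (hchar k hk)
      set w := k⁻¹ * uD k
      by_contra hne'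
      have hw1 : (w : G) ≠ 1 := fun e => hne' (inv_mul_eq_one.mp (Subtype.ext e)).symm
      have hwi : u * (w : G) * u⁻¹ = (w : G)⁻¹ := by
        show u * ((k : G)⁻¹ * (u * k * u⁻¹)) * u⁻¹ = ((k : G)⁻¹ * (u * k * u⁻¹))⁻¹
        rw [inv_eq_of_mul_eq_one_right hu2]
        calc u * ((k : G)⁻¹ * (u * k * u)) * u = u * (k : G)⁻¹ * u * k * (u * u) := by group
          _ = u * (k : G)⁻¹ * u * k := by rw [hu2, mul_one]
          _ = _ := by rw [mul_inv_rev, mul_inv_rev, mul_inv_rev, inv_inv, inv_eq_of_mul_eq_one_right hu2]; group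
      have hws := hDinv _ w.2 hwi hw1
      exact CfsgLib.not_dvd_card_pPrimeCore c.hs (G := D)
        ((hws ▸ (Subgroup.orderOf_coe w).symm ▸ dvd_rfl : s ∣ orderOf w).trans
          (Subgroup.orderOf_dvd_natCard _ hmem))
    have hzs : ¬ s ∣ orderOf (z : G) := fun h => CfsgLib.not_dvd_card_pPrimeCore c.hs (G := D)
      ((Subgroup.orderOf_coe z ▸ h).trans (Subgroup.orderOf_dvd_natCard _ hz))
    have hyD : y ∈ D := (hdel v₀ hv₀).1
    have hconj := (inferInstance : (Cfsg.pPrimeCore s D).Normal).conj_mem z hz ⟨y, hyD⟩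
    have h1 : u * (z : G) * u⁻¹ = z := congrArg Subtype.val (hfix z hz)
    have h2 : u * (y * z * y⁻¹) * u⁻¹ = y * z * y⁻¹ := congrArg Subtype.val (hfix _ hconj)
    rw [show u * (y * z * y⁻¹) * u⁻¹ = (u * y * u⁻¹) * (u * z * u⁻¹) * (u * y * u⁻¹)⁻¹ by group, h1, hyi,
      inv_inv] at h2
    have h3 : Commute (z : G) (y ^ 2) := by
      show _ = _
      rw [pow_two]
      calc (z : G) * (y * y) = y * (y⁻¹ * (z : G) * y) * y := by group
        _ = y * (y * z * y⁻¹) * y := by rw [h2]
        _ = _ := by group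
    have hy2 : orderOf (y ^ 2) = s := by
      rw [Nat.Coprime.orderOf_pow]
      · exact hy
      · rw [hy]; exact (Nat.coprime_primes c.hs Nat.prime_two).mpr c.hs2
    have hz1' : (z : G) ≠ 1 := fun e => hz1 (Subtype.ext e)
    rcases c.orders (z : G) with e | e | e | e | e
    · exact hz1' (orderOf_eq_one_iff.mp e)
    · exact c.not_commute_s (Or.inl e) hy2 h3
    · exact c.not_commute_s (Or.inr e) hy2 h3
    · exact hzs e.symm.dvd
    · exact hDodd z z.2 (e ▸ dvd_mul_right 2 r)
  set W : Subgroup G := (Cfsg.pCore s D).map D.subtype with hW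
  have hW_s : ∀ k ∈ D, orderOf k = s → k ∈ W := by
    intro k hk hko
    have hp : IsPGroup s (zpowers (⟨k, hk⟩ : D)) :=
      IsPGroup.of_card (n := 1) (by rw [Nat.card_zpowers, Subgroup.orderOf_mk, hko, pow_one])
    obtain ⟨P, hP⟩ := hp.exists_le_sylow
    obtain ⟨T, hT⟩ := (P.2.map D.subtype).exists_le_sylow
    refine ⟨⟨k, hk⟩, CfsgLib.centralizer_pCore_le c.hs hcore (mem_centralizer_iff.mpr fun a ha => ?_), rfl⟩
    exact Subtype.ext (hab T _ (hT ⟨a, CfsgLib.pCore_le_sylow P ha, rfl⟩) _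
      (hT ⟨_, hP (mem_zpowers _), rfl⟩))
  have hWM : W ≤ M := (map_subtype_le _).trans inf_le_left
  have hWp : IsPGroup s W := (CfsgLib.isPGroup_pCore s).map _
  -- `W` is semiregular on the involutions of `S`
  have hfree : ∀ k ∈ W, k * t = t * k → k = 1 := by
    intro k hk hkt
    by_contra hk1
    obtain ⟨n, hn⟩ := IsPGroup.iff_orderOf.mp hWp ⟨k, hk⟩
    rw [Subgroup.orderOf_mk] at hn
    rcases Nat.eq_zero_or_pos n with rfl | hn0
    · rw [pow_zero, orderOf_eq_one_iff] at hn; exact hk1 hn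
    exact c.not_s_dvd_cent (Or.inl (c.sylow_ord S htS ht1)) hkt (hn ▸ dvd_pow_self s hn0.ne')
  let φ : W → {a : (S : Subgroup G) // a ≠ 1} := fun k =>
    ⟨⟨(k : G) * t * (k : G)⁻¹, (mem_normalizer_iff.mp (hWM k.2) t).mp htS⟩,
      fun e => ht1 (conj_eq_one_iff.mp (congrArg Subtype.val e))⟩
  have hφ : Function.Injective φ := by
    intro a b h
    have h' : (a : G) * t * (a : G)⁻¹ = (b : G) * t * (b : G)⁻¹ := congrArg (fun x => x.1.1) h
    refine Subtype.ext (inv_mul_eq_one.mp (hfree _ (mul_mem (inv_mem b.2) a.2) ?_)).symm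
    calc (b : G)⁻¹ * a * t = (b : G)⁻¹ * ((a : G) * t * (a : G)⁻¹) * a := by group
      _ = _ := by rw [h']; group
  have hcardS : Nat.card {a : (S : Subgroup G) // a ≠ 1} = m := by
    haveI := Fintype.ofFinite (S : Subgroup G)
    rw [hm, Nat.card_eq_fintype_card, Fintype.card_subtype_compl, Fintype.card_subtype_eq,
      Nat.card_eq_fintype_card]
  have hWm : m ≤ Nat.card W := by
    refine hqm.trans ?_
    let ψ : {v // v ∈ F} → W := fun v => ⟨u * v.1, by
      by_cases h1 : u * v.1 = 1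
      · rw [h1]; exact one_mem W
      · exact hW_s _ (hdel v.1 v.2).1 (hDinv _ (hdel v.1 v.2).1 (hdel v.1 v.2).2 h1)⟩
    have hψ : Function.Injective ψ := fun a b h => Subtype.ext (mul_left_cancel (congrArg Subtype.val h))
    have := Nat.card_le_card_of_injective ψ hψ
    rwa [Nat.card_eq_finsetCard] at this
  have hbij : Function.Surjective φ := (hφ.bijective_of_nat_card_le (hcardS.le.trans hWm)).2
  -- the centraliser of `t` contains the `r`-part
  have hr1 := c.r_dvd_index_cent S htS ht1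
  set C := centralizer ({t} : Set G)
  have hcardM : Nat.card M ∣ Nat.card W * Nat.card C := by
    have hCM : C ≤ M := hI S t htS ht1
    let χ : W × C → M := fun p => ⟨(p.1 : G) * (p.2 : G), mul_mem (hWM p.1.2) (hCM p.2.2)⟩
    have hχ : Function.Bijective χ := by
      constructor
      · rintro ⟨a, x⟩ ⟨b, z⟩ h
        have h' : (a : G) * x = (b : G) * z := congrArg Subtype.val h
        have h1 : (b : G)⁻¹ * a = (z : G) * (x : G)⁻¹ :=
          calc (b : G)⁻¹ * a = (b : G)⁻¹ * ((a : G) * x) * (x : G)⁻¹ := by group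
            _ = _ := by rw [h']; group
        have hab' : b = a := Subtype.ext (inv_mul_eq_one.mp (hfree _ (mul_mem (inv_mem b.2) a.2)
          (mem_cent.mp (h1 ▸ mul_mem z.2 (inv_mem x.2)))))
        subst hab'
        exact Prod.ext rfl (Subtype.ext (mul_left_cancel h'))
      · intro g
        obtain ⟨k, hk⟩ := hbij ⟨⟨(g : G) * t * (g : G)⁻¹, (mem_normalizer_iff.mp g.2 t).mp htS⟩,
          fun e => ht1 (conj_eq_one_iff.mp (congrArg Subtype.val e))⟩
        have hk' : (k : G) * t * (k : G)⁻¹ = (g : G) * t * (g : G)⁻¹ := congrArg (fun x => x.1.1) hk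
        refine ⟨⟨k, ⟨(k : G)⁻¹ * g, mem_cent.mpr ?_⟩⟩, Subtype.ext (by simp [χ])⟩
        calc (k : G)⁻¹ * g * t = (k : G)⁻¹ * ((g : G) * t * (g : G)⁻¹) * g := by group
          _ = _ := by rw [← hk']; group
    rw [← Nat.card_prod, Nat.card_eq_of_bijective χ hχ]
  have hCcard := C.card_mul_index
  have hMcard := M.card_mul_index
  obtain ⟨n, hn⟩ := IsPGroup.iff_card.mp hWp
  have h1 : C.index ∣ M.index * Nat.card W := by
    refine Nat.dvd_of_mul_dvd_mul_left (Nat.card_pos (α := C)) ?_
    rw [hCcard, ← hMcard]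
    calc Nat.card M * M.index ∣ Nat.card W * Nat.card C * M.index := Nat.mul_dvd_mul_right hcardM _
      _ = Nat.card C * (M.index * Nat.card W) := by ring
  rcases c.hr.dvd_mul.mp (hr1.trans h1) with h | h
  · exact c.r_part hI S h
  · rw [hn] at h
    exact c.hrs ((Nat.prime_dvd_prime_iff_eq c.hr c.hs).mp (c.hr.dvd_of_dvd_pow h))

end TwoR

end CfsgLib.FiveOrbits
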