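import Cfsg.Agent.Lib.EppoAlmost.List
import Cfsg.Agent.Lib.Suzuki.Fixed

/-!
Six element orders in `PSL(2,17)`, `PSL(3,4)`, `Sz(8)` and `Sz(32)`.
-/

set_option autoImplicit false
set_option linter.unusedSectionVars false
set_option linter.style.haveILetI false

namespace CfsgLib.FiveOrbits

open Matrix

theorem psl_seventeen {F : Type*} [Field F] [Fintype F] (hF : Fintype.card F = 17) :
    ∀ n ∈ ({1, 2, 3, 4, 8, 17} : Finset ℕ), ∃ x : ProjectiveSpecialLinearGroup (Fin 2) F, orderOf x = n := by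
  haveI := Fact.mk (by norm_num : (17 : ℕ).Prime)
  haveI : CharP F 17 := charP_of_card_eq_prime_pow (p := 17) (f := 1) (by rw [hF]; norm_num)
  intro n hn
  refine (PSL2Spectrum.psl_orders 17 n).mpr ?_
  rw [hF]
  simp only [Finset.mem_insert, Finset.mem_singleton] at hn
  rcases hn with rfl | rfl | rfl | rfl | rfl | rfl <;> norm_num

theorem psl_three_four {F : Type*} [Field F] [Fintype F] (hF : Fintype.card F = 4) :
    ∃ x : ProjectiveSpecialLinearGroup (Fin 3) F, orderOf x = 4 := by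
  haveI := Fact.mk (by norm_num : (2 : ℕ).Prime)
  haveI : CharP F 2 := charP_of_card_eq_prime_pow (p := 2) (f := 2) (by rw [hF]; norm_num)
  let M : Matrix (Fin 3) (Fin 3) F := !![1, 1, 0; 0, 1, 1; 0, 0, 1]
  let g : SpecialLinearGroup (Fin 3) F := ⟨M, by simp [M, Matrix.det_fin_three]⟩
  have hM : M * M = !![1, 0, 1; 0, 1, 0; 0, 0, 1] := by
    ext i j
    fin_cases i <;> fin_cases j <;> simp [M, Matrix.mul_apply, Fin.sum_univ_three, CharTwo.add_self_eq_zero]
  have h2 : (g ^ 2).1 = !![1, 0, 1; 0, 1, 0; 0, 0, 1] := by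
    rw [pow_two]; exact hM
  have h4 : g ^ 2 ^ 2 = 1 := by
    refine Subtype.ext ?_
    rw [show g ^ 2 ^ 2 = g ^ 2 * g ^ 2 by rw [← pow_add]; norm_num]
    show (g ^ 2).1 * (g ^ 2).1 = 1
    rw [h2]
    ext i j
    fin_cases i <;> fin_cases j <;> simp [Matrix.mul_apply, Fin.sum_univ_three, CharTwo.add_self_eq_zero]
  refine ⟨QuotientGroup.mk' _ g, orderOf_eq_prime_pow (p := 2) (n := 1) ?_ ?_⟩
  · intro h
    rw [pow_one, ← map_pow, QuotientGroup.mk'_apply, QuotientGroup.eq_one_iff,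
      Matrix.SpecialLinearGroup.mem_center_iff] at h
    obtain ⟨r, -, hr⟩ := h
    have h5 : (Matrix.scalar (Fin 3) r) 0 2 = (g ^ 2).1 0 2 := congrArg (fun X => X 0 2) hr
    rw [h2] at h5
    simp at h5
  · rw [← map_pow, h4, map_one]

theorem sz_four {F : Type*} [Field F] [Fintype F] {m : ℕ} (hF : Fintype.card F = 2 ^ (2 * m + 1)) :
    ∃ x : ↥(Cfsg.Sz F m), orderOf x = 4 := by
  haveI := Fact.mk (by norm_num : (2 : ℕ).Prime)
  refine ⟨Suzuki.uS hF 1 0, orderOf_eq_prime_pow (p := 2) (n := 1) ?_ ?_⟩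
  · intro h
    rw [pow_one, pow_two, Suzuki.uS_sq, Suzuki.eq_one_iff_uS] at h
    simp [Suzuki.th] at h
  · rw [show Suzuki.uS hF 1 0 ^ 2 ^ (1 + 1) = (Suzuki.uS hF 1 0 * Suzuki.uS hF 1 0) *
        (Suzuki.uS hF 1 0 * Suzuki.uS hF 1 0) by simp only [← pow_two, ← pow_mul, ← pow_add], Suzuki.uS_sq, Suzuki.uS_sq, Suzuki.eq_one_iff_uS]
    simp

end CfsgLib.FiveOrbits
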