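import Cfsg.Agent.Lib.FiveOrbits.OddPair
import Cfsg.Agent.Lib.FiveOrbits.Counting
import Cfsg.Agent.Lib.FiveOrbits.List
import Cfsg.Agent.S0205
import Cfsg.Agent.S0252

/-!
Non-abelian simple groups with at most five orbits of the automorphism group, given the list of the simple groups
with prime power element orders.
-/

set_option autoImplicit false
set_option linter.unusedSectionVars false
set_option linter.style.haveILetI false

namespace CfsgLib.FiveOrbits

open Subgroup

universe u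

variable {G : Type u} [Group G] [Finite G]

theorem orders_le (h5 : Nat.card (MulAction.orbitRel.Quotient (MulAut G) G) ≤ 5) (O : Finset ℕ)
    (hO : ∀ n ∈ O, ∃ g : G, orderOf g = n) : O.card ≤ 5 ∧
      (O.card = 5 → (∀ g : G, orderOf g ∈ O) ∧ OrdConj G) := by
  classical
  haveI := Fintype.ofFinite G
  let ord : MulAction.orbitRel.Quotient (MulAut G) G → ℕ :=
    Quotient.lift (fun g : G => orderOf g) fun a b hab => by
      obtain ⟨α, rfl⟩ := MulAction.orbitRel_apply.mp hab
      exact MulEquiv.orderOf_eq α b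
  haveI : Fintype (MulAction.orbitRel.Quotient (MulAut G) G) := Fintype.ofFinite _
  rw [Nat.card_eq_fintype_card] at h5
  set I := Finset.univ.image ord with hI
  have hmem : ∀ g : G, orderOf g ∈ I := fun g => Finset.mem_image.mpr ⟨Quotient.mk _ g, Finset.mem_univ _, rfl⟩
  have hsub : O ⊆ I := fun n hn => by
    obtain ⟨g, rfl⟩ := hO n hn
    exact hmem g
  have hle : I.card ≤ 5 := Finset.card_image_le.trans h5
  refine ⟨(Finset.card_le_card hsub).trans hle, fun h => ?_⟩
  have heq : O = I := Finset.eq_of_subset_of_card_le hsub (h ▸ hle)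
  refine ⟨fun g => heq ▸ hmem g, fun a b hab => ?_⟩
  have hI5 : I.card = (Finset.univ : Finset (MulAction.orbitRel.Quotient (MulAut G) G)).card :=
    le_antisymm Finset.card_image_le (by rw [← heq, h]; exact h5)
  have := Finset.card_image_iff.mp hI5 (Finset.mem_univ (Quotient.mk _ a)) (Finset.mem_univ (Quotient.mk _ b)) hab
  obtain ⟨α, hα⟩ := MulAction.orbitRel_apply.mp (Quotient.exact this)
  exact ⟨α.symm, by rw [← hα]; exact α.symm_apply_apply b⟩

theorem no_six (h5 : Nat.card (MulAction.orbitRel.Quotient (MulAut G) G) ≤ 5) (O : Finset ℕ) (h6 : O.card = 6)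
    (hO : ∀ n ∈ O, ∃ g : G, orderOf g = n) : False := by
  have := (orders_le h5 O hO).1
  omega

theorem prime_orders {n : ℕ} (hn : n.Prime) (h : n ∣ Nat.card G) : ∃ g : G, orderOf g = n :=
  haveI := Fact.mk hn
  exists_prime_orderOf_dvd_card' n h

theorem six_of_primes (h5 : Nat.card (MulAction.orbitRel.Quotient (MulAut G) G) ≤ 5) {a b d : ℕ}
    (ha : a.Prime) (hb : b.Prime) (hd : d.Prime) (ha' : a ∣ Nat.card G) (hb' : b ∣ Nat.card G)
    (hd' : d ∣ Nat.card G) (h2 : 2 ∣ Nat.card G) (h4 : ∃ g : G, orderOf g = 4)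
    (hne : ({1, 2, 4, a, b, d} : Finset ℕ).card = 6) : False := by
  refine no_six h5 _ hne fun n hn => ?_
  simp only [Finset.mem_insert, Finset.mem_singleton] at hn
  rcases hn with rfl | rfl | rfl | rfl | rfl | rfl
  · exact ⟨1, orderOf_one⟩
  · exact prime_orders Nat.prime_two h2
  · exact h4
  · exact prime_orders ha ha'
  · exact prime_orders hb hb'
  · exact prime_orders hd hd'

theorem exists_third [IsSimpleGroup G] (hG : ¬ IsMulCommutative G) {p q : ℕ} (hp : p.Prime) (hq : q.Prime)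
    (hpq : p ≠ q) : ∃ ℓ : ℕ, ℓ.Prime ∧ ℓ ∣ Nat.card G ∧ ℓ ≠ p ∧ ℓ ≠ q := by
  by_contra hcon
  push Not at hcon
  have hne := (Nat.card_pos (α := G)).ne'
  have hsol : Group.IsSolvable G := by
    refine CfsgLib.CharTheory.isSolvable_of_card_two_primes hp hq
      (a := (Nat.card G).factorization p) (b := (Nat.card G).factorization q) ?_
    refine Nat.eq_of_factorization_eq hne (mul_ne_zero (pow_ne_zero _ hp.ne_zero) (pow_ne_zero _ hq.ne_zero))
      fun ℓ => ?_
    rw [Nat.factorization_mul (pow_ne_zero _ hp.ne_zero) (pow_ne_zero _ hq.ne_zero), hp.factorization_pow,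
      hq.factorization_pow, Finsupp.add_apply, Finsupp.single_apply, Finsupp.single_apply]
    by_cases hl : ℓ.Prime ∧ ℓ ∣ Nat.card G
    · by_cases e : ℓ = p
      · subst e; simp [hpq.symm]
      · have := hcon ℓ hl.1 hl.2 e
        subst this; simp [hpq]
    · have : (Nat.card G).factorization ℓ = 0 := by
        rw [Nat.factorization_eq_zero_iff]
        tauto
      rw [this]
      split_ifs with h1 h2 <;> subst_vars <;> simp_all
  exact hG ⟨⟨IsSimpleGroup.comm_iff_isSolvable.mpr hsol⟩⟩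

theorem two_dvd_card [IsSimpleGroup G] (hG : ¬ IsMulCommutative G) : 2 ∣ Nat.card G := by
  by_contra h
  haveI : Group.IsSolvable G := Cfsg.Agent.S0205.result (Nat.odd_iff.mpr (by omega))
  exact hG ⟨⟨IsSimpleGroup.comm_iff_isSolvable.mpr inferInstance⟩⟩

theorem epo_of_five [IsSimpleGroup G] (hG : ¬ IsMulCommutative G)
    (h5 : Nat.card (MulAction.orbitRel.Quotient (MulAut G) G) ≤ 5) : CfsgLib.EppoAlmost.Epo G := by
  intro g hg
  by_contra hpp
  have h1 : orderOf g ≠ 1 := fun e => hg (orderOf_eq_one_iff.mp e)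
  set p := (orderOf g).minFac
  have hp : p.Prime := Nat.minFac_prime h1
  obtain ⟨q, hq, hqd, hqp⟩ : ∃ q : ℕ, q.Prime ∧ q ∣ orderOf g ∧ q ≠ p := by
    by_contra hcon
    push Not at hcon
    have := Nat.eq_prime_pow_of_unique_prime_dvd (orderOf_pos g).ne' fun {d} hd hdd => hcon d hd hdd
    refine hpp ((isPrimePow_nat_iff _).mpr ⟨p, _, hp, ?_, this.symm⟩)
    by_contra h0
    rw [Nat.eq_zero_of_not_pos h0, pow_zero] at this
    exact h1 this
  have hpd : p ∣ orderOf g := Nat.minFac_dvd _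
  obtain ⟨k, hk⟩ := exists_orderOf_of_dvd
    (((Nat.coprime_primes hp hq).mpr hqp.symm).mul_dvd_of_dvd_of_dvd hpd hqd)
  obtain ⟨ℓ, hl, hld, hlp, hlq⟩ := exists_third hG hp hq hqp.symm
  have hpG := hpd.trans (orderOf_dvd_natCard g)
  have hqG := hqd.trans (orderOf_dvd_natCard g)
  have hp2 := hp.two_le
  have hq2 := hq.two_le
  have hpq : p < p * q := lt_mul_of_one_lt_right hp.pos hq.one_lt
  have hqpq : q < p * q := lt_mul_of_one_lt_left hq.pos hp.one_lt
  have hlpq : ℓ ≠ p * q := fun e => Nat.not_prime_mul hp.ne_one hq.ne_one (e ▸ hl)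
  have hcard : ({1, p, q, ℓ, p * q} : Finset ℕ).card = 5 := by
    have := hl.two_le
    rw [Finset.card_insert_of_notMem (by simp; omega), Finset.card_insert_of_notMem (by simp; omega),
      Finset.card_insert_of_notMem (by simp; omega), Finset.card_insert_of_notMem (by simp; omega),
      Finset.card_singleton]
  obtain ⟨-, h⟩ := orders_le h5 ({1, p, q, ℓ, p * q} : Finset ℕ) fun n hn => by
    simp only [Finset.mem_insert, Finset.mem_singleton] at hn
    rcases hn with rfl | rfl | rfl | rfl | rfl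
    · exact ⟨1, orderOf_one⟩
    · exact prime_orders hp hpG
    · exact prime_orders hq hqG
    · exact prime_orders hl hld
    · exact ⟨_, hk⟩
  obtain ⟨hord, hconj⟩ := h hcard
  simp only [Finset.mem_insert, Finset.mem_singleton] at hord
  obtain ⟨t, ht⟩ := prime_orders (G := G) Nat.prime_two (two_dvd_card hG)
  have h2 : p = 2 ∨ q = 2 ∨ ℓ = 2 := by
    rcases ht ▸ hord t with h | h | h | h | h
    · omega
    · exact Or.inl h.symm
    · exact Or.inr (Or.inl h.symm)
    · exact Or.inr (Or.inr h.symm)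
    · exact absurd (h ▸ Nat.prime_two) (Nat.not_prime_mul hp.ne_one hq.ne_one)
  obtain ⟨gl, hgl⟩ := prime_orders (G := G) hl hld
  rcases h2 with e | e | e
  · refine false_two_r (r := q) (s := ℓ)
      ⟨hG, hconj, hq, hl, e ▸ hqp, e ▸ hlp, hlq.symm, fun x => ?_, ⟨_, e ▸ hk⟩, ⟨gl, hgl⟩⟩
    have := hord x
    rw [e] at this
    tauto
  · refine false_two_r (r := p) (s := ℓ)
      ⟨hG, hconj, hp, hl, e ▸ hqp.symm, e ▸ hlq, hlp.symm, fun x => ?_, ⟨_, by rw [hk, e, mul_comm]⟩, ⟨gl, hgl⟩⟩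
    have := hord x
    rw [e, mul_comm p 2] at this
    tauto
  · refine false_odd_pair hG hconj hp hq (e ▸ hlp.symm) (e ▸ hlq.symm) hqp.symm (fun x => ?_) ⟨t, ht⟩ ⟨_, hk⟩
    have := hord x
    rw [e] at this
    simp only [Set.mem_insert_iff, Set.mem_singleton_iff]
    tauto

theorem main (H : CfsgLib.EppoAlmost.SimpleList.{u}) [IsSimpleGroup G] (hG : ¬ IsMulCommutative G)
    (h5 : Nat.card (MulAction.orbitRel.Quotient (MulAut G) G) ≤ 5) :
    Nonempty (G ≃* ↥(alternatingGroup (Fin 5))) ∨ Nonempty (G ≃* ↥(alternatingGroup (Fin 6))) ∨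
      (∃ (F : Type) (_ : Field F) (_ : Fintype F), (Fintype.card F = 7 ∨ Fintype.card F = 8) ∧
        Nonempty (G ≃* Matrix.ProjectiveSpecialLinearGroup (Fin 2) F)) := by
  have hepo := epo_of_five hG h5
  have hev := two_dvd_card hG
  rcases H G hG hepo with h | ⟨F, _, _, hF, ⟨e⟩⟩ | ⟨F, _, _, hF, ⟨e⟩⟩ | ⟨F, _, _, ⟨hF, ⟨e⟩⟩ | ⟨hF, ⟨e⟩⟩⟩
  · exact Or.inr (Or.inl h)
  · simp only [Finset.mem_insert, Finset.mem_singleton] at hF
    rcases hF with hF | hF | hF | hF
    · obtain ⟨e'⟩ := Cfsg.Agent.S0252.result hF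
      exact Or.inl ⟨e.trans e'⟩
    · exact Or.inr (Or.inr ⟨F, inferInstance, inferInstance, Or.inl hF, ⟨e⟩⟩)
    · exact Or.inr (Or.inr ⟨F, inferInstance, inferInstance, Or.inr hF, ⟨e⟩⟩)
    · refine (no_six h5 ({1, 2, 3, 4, 8, 17} : Finset ℕ) rfl fun n hn => ?_).elim
      obtain ⟨x, hx⟩ := psl_seventeen hF n hn
      exact ⟨e.symm x, by rw [MulEquiv.orderOf_eq, hx]⟩
  · have hc : Nat.card G = 20160 := by
      rw [Nat.card_congr e.toEquiv, CfsgLib.EppoAlmost.card_psl_three_four hF]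
    obtain ⟨x, hx⟩ := psl_three_four hF
    refine (six_of_primes h5 (a := 3) (b := 5) (d := 7) (by norm_num) (by norm_num) (by norm_num) ?_ ?_ ?_ hev
      ⟨e.symm x, by rw [MulEquiv.orderOf_eq, hx]⟩ rfl).elim <;> rw [hc] <;> norm_num
  · have hF' : Fintype.card F = 2 ^ (2 * 1 + 1) := by rw [hF]; norm_num
    let e' := e.trans (Suzuki.lieEquiv hF' le_rfl).symm
    have hc : Nat.card G = 29120 := by
      rw [Nat.card_congr e'.toEquiv, Suzuki.card_Sz hF' le_rfl]; norm_num
    obtain ⟨x, hx⟩ := sz_four hF'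
    refine (six_of_primes h5 (a := 5) (b := 7) (d := 13) (by norm_num) (by norm_num) (by norm_num) ?_ ?_ ?_ hev
      ⟨e'.symm x, by rw [MulEquiv.orderOf_eq, hx]⟩ rfl).elim <;> rw [hc] <;> norm_num
  · have hF' : Fintype.card F = 2 ^ (2 * 2 + 1) := by rw [hF]; norm_num
    let e' := e.trans (Suzuki.lieEquiv hF' (by norm_num)).symm
    have hc : Nat.card G = 32537600 := by
      rw [Nat.card_congr e'.toEquiv, Suzuki.card_Sz hF' (by norm_num)]; norm_num
    obtain ⟨x, hx⟩ := sz_four hF'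
    refine (six_of_primes h5 (a := 5) (b := 31) (d := 41) (by norm_num) (by norm_num) (by norm_num) ?_ ?_ ?_ hev
      ⟨e'.symm x, by rw [MulEquiv.orderOf_eq, hx]⟩ rfl).elim <;> rw [hc] <;> norm_num

end CfsgLib.FiveOrbits
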