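import Cfsg.Agent.Lib.FiveOrbits.Basic

/-!
No non-abelian simple group has element orders one, two, two odd primes and their product, with elements of equal
order conjugate under automorphisms.
-/

set_option autoImplicit false
set_option linter.unusedSectionVars false

namespace CfsgLib.FiveOrbits

open Subgroup

universe u

variable {G : Type u} [Group G] [Finite G]

theorem false_odd_pair [IsSimpleGroup G] (hG : ¬ IsMulCommutative G) (hconj : OrdConj G) {p q : ℕ}
    (hp : p.Prime) (hq : q.Prime) (hp2 : p ≠ 2) (hq2 : q ≠ 2) (hpq : p ≠ q)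
    (hO : ∀ g : G, orderOf g ∈ ({1, 2, p, q, p * q} : Set ℕ))
    (h2 : ∃ g : G, orderOf g = 2) (hm : ∃ g : G, orderOf g = p * q) : False := by
  haveI := Fact.mk hp
  haveI := Fact.mk hq
  simp only [Set.mem_insert_iff, Set.mem_singleton_iff] at hO
  have hop : Odd p := hp.odd_of_ne_two hp2
  have hoq : Odd q := hq.odd_of_ne_two hq2
  -- an element commuting with an involution has order at most two
  have hCIT : ∀ u k : G, orderOf u = 2 → u * k = k * u → k * k = 1 := by
    intro u k hu hk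
    suffices orderOf k ∣ 2 by rw [← pow_two]; exact orderOf_dvd_iff_pow_eq_one.mp this
    by_contra hne
    have key : ∀ ℓ : ℕ, ℓ.Prime → ℓ ≠ 2 → ℓ ∣ orderOf k → False := by
      intro ℓ hl hl2 hd
      obtain ⟨j, hj⟩ := exists_orderOf_of_dvd hd
      have hc : Commute u (k ^ j) := Commute.pow_right (show Commute u k from hk) j
      have hcop : (orderOf u).Coprime (orderOf (k ^ j)) := by
        rw [hu, hj]; exact (Nat.coprime_primes Nat.prime_two hl).mpr hl2.symm
      have ho := hc.orderOf_mul_eq_mul_orderOf_of_coprime hcop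
      rw [hu, hj] at ho
      have h2l : Even (2 * ℓ) := even_two_mul ℓ
      have h2 := hl.two_le
      rcases hO (u * k ^ j) with h | h | h | h | h <;> rw [ho] at h
      · omega
      · omega
      · exact Nat.not_even_iff_odd.mpr hop (h ▸ h2l)
      · exact Nat.not_even_iff_odd.mpr hoq (h ▸ h2l)
      · exact Nat.not_even_iff_odd.mpr (hop.mul hoq) (h ▸ h2l)
    rcases hO k with h | h | h | h | h
    · exact hne (h ▸ one_dvd _)
    · exact hne (h ▸ dvd_rfl)
    · exact key p hp hp2 (h ▸ dvd_rfl)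
    · exact key q hq hq2 (h ▸ dvd_rfl)
    · exact key p hp hp2 (h ▸ dvd_mul_right _ _)
  obtain ⟨t, ht⟩ := h2
  obtain ⟨u, v, hu, hv, huv⟩ := exists_product hG ht
  have hu2 := CfsgLib.Involutions.mul_self_eq_one_of_orderOf hu
  have hv2 := CfsgLib.Involutions.mul_self_eq_one_of_orderOf hv
  have huvinv : u * (u * v) * u⁻¹ = (u * v)⁻¹ := CfsgLib.Involutions.conj_mul_eq_inv hu2 hv2
  -- an inverted element of prime order
  obtain ⟨r, s, hr, hs, hrs, hr2, hd, hRS, hmm⟩ : ∃ r s : ℕ, r.Prime ∧ s.Prime ∧ r ≠ s ∧ r ≠ 2 ∧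
      (∃ d : G, orderOf d = r ∧ u * d * u⁻¹ = d⁻¹) ∧ (∀ ℓ : ℕ, ℓ.Prime → ℓ ∣ Nat.card G → ℓ = 2 ∨ ℓ = r ∨ ℓ = s) ∧
      ∃ g : G, orderOf g = r * s := by
    have hpr : ∀ ℓ : ℕ, ℓ.Prime → ℓ ∣ Nat.card G → ℓ = 2 ∨ ℓ = p ∨ ℓ = q := by
      intro ℓ hl hd
      have := prime_dvd_card_mem (O := {n | n = 1 ∨ n = 2 ∨ n = p ∨ n = q ∨ n = p * q}) hO hl hd
      rcases this with h | h | h | h | h
      · exact absurd h hl.ne_one
      · exact Or.inl h
      · exact Or.inr (Or.inl h)
      · exact Or.inr (Or.inr h)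
      · exact absurd (h ▸ hl) (Nat.not_prime_mul hp.ne_one hq.ne_one)
    have hnot : ¬ orderOf (u * v) ∣ 2 := fun h => huv (by
      have h1 : (u * v) * (u * v) = 1 := by rw [← pow_two]; exact orderOf_dvd_iff_pow_eq_one.mp h
      calc u * v = u⁻¹ * v⁻¹ := by rw [inv_eq_of_mul_eq_one_right hu2, inv_eq_of_mul_eq_one_right hv2]
        _ = (v * u)⁻¹ := by group
        _ = v * u := by
          refine inv_eq_of_mul_eq_one_right ?_
          calc v * u * (v * u) = u⁻¹ * ((u * v) * (u * v)) * u := by group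
            _ = 1 := by rw [h1]; group)
    by_cases hpd : p ∣ orderOf (u * v)
    · obtain ⟨j, hj⟩ := exists_orderOf_of_dvd hpd
      exact ⟨p, q, hp, hq, hpq, hp2, ⟨_, hj, inv_pow huvinv j⟩, hpr, hm⟩
    · have hqd : q ∣ orderOf (u * v) := by
        rcases hO (u * v) with h | h | h | h | h
        · exact absurd (h ▸ one_dvd _) hnot
        · exact absurd (h ▸ dvd_rfl) hnot
        · exact absurd (h ▸ dvd_rfl) hpd
        · exact h ▸ dvd_rfl
        · exact h ▸ dvd_mul_left _ _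
      obtain ⟨j, hj⟩ := exists_orderOf_of_dvd hqd
      exact ⟨q, p, hq, hp, hpq.symm, hq2, ⟨_, hj, inv_pow huvinv j⟩,
        fun ℓ hl hd => (hpr ℓ hl hd).imp id Or.symm, by rwa [mul_comm]⟩
  haveI := Fact.mk hr
  haveI := Fact.mk hs
  -- centralisers of inverted elements are abelian and inverted
  have hab : ∀ d : G, orderOf d ≠ 1 → orderOf d ≠ 2 → u * d * u⁻¹ = d⁻¹ →
      (∀ k ∈ centralizer ({d} : Set G), u * k * u⁻¹ = k⁻¹) ∧
      ∀ a ∈ centralizer ({d} : Set G), ∀ b ∈ centralizer ({d} : Set G), a * b = b * a := by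
    intro d hd1 hd2 hdi
    refine fpf_invert hu2 _ (fun k hk => ?_) (fun k hk huk => ?_)
    · rw [mem_cent] at hk ⊢
      have h1 : u * d⁻¹ * u⁻¹ = d := by
        rw [show u * d⁻¹ * u⁻¹ = (u * d * u⁻¹)⁻¹ by group, hdi, inv_inv]
      calc u * k * u⁻¹ * d = u * k * u⁻¹ * (u * d⁻¹ * u⁻¹) := by rw [h1]
        _ = u * (k * d⁻¹) * u⁻¹ := by group
        _ = u * (d⁻¹ * k) * u⁻¹ := by rw [(show Commute k d from hk).inv_right.eq]
        _ = (u * d⁻¹ * u⁻¹) * (u * k * u⁻¹) := by group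
        _ = _ := by rw [h1]
    · by_contra hk1
      have hkk := hCIT u k hu huk
      have hko : orderOf k = 2 := CfsgLib.Involutions.orderOf_eq_two_iff'.mpr ⟨hkk, hk1⟩
      have := hCIT k d hko (mem_cent.mp hk)
      rw [← pow_two] at this
      rcases (Nat.dvd_prime Nat.prime_two).mp (orderOf_dvd_of_pow_eq_one this) with h | h
      · exact hd1 h
      · exact hd2 h
  obtain ⟨d, hdo, hdi⟩ := hd
  obtain ⟨hinvd, habd⟩ := hab d (hdo ▸ hr.ne_one) (hdo ▸ hr2) hdi
  -- an element of the other prime order in the centraliser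
  obtain ⟨g, hg⟩ := hmm
  obtain ⟨i, hi⟩ := exists_orderOf_of_dvd (g := g) (m := r) (hg ▸ dvd_mul_right _ _)
  obtain ⟨j, hj⟩ := exists_orderOf_of_dvd (g := g) (m := s) (hg ▸ dvd_mul_left _ _)
  obtain ⟨α, hα⟩ := hconj (g ^ i) d (hi.trans hdo.symm)
  have hye : orderOf (α (g ^ j)) = s := by rw [MulEquiv.orderOf_eq, hj]
  have hyC : α (g ^ j) ∈ centralizer ({d} : Set G) := by
    rw [mem_cent, ← hα, ← map_mul, ← map_mul, ← pow_add, ← pow_add, add_comm]
  have hs2 : s ≠ 2 := by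
    intro e
    have := hCIT (α (g ^ j)) d (by rw [hye, e]) (mem_cent.mp hyC)
    rw [← pow_two] at this
    rcases (Nat.dvd_prime Nat.prime_two).mp (orderOf_dvd_of_pow_eq_one this) with h | h
    · exact hr.ne_one (hdo ▸ h)
    · exact hr2 (hdo ▸ h)
  obtain ⟨-, haby⟩ := hab (α (g ^ j)) (hye ▸ hs.ne_one) (hye ▸ hs2) (hinvd _ hyC)
  have hdy : d ∈ centralizer ({α (g ^ j)} : Set G) := mem_cent.mpr (mem_cent.mp hyC).symm
  obtain ⟨R, hR, -⟩ := sylow_card_dvd_cent hconj hdo
  obtain ⟨S, hS, -⟩ := sylow_card_dvd_cent hconj hye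
  have hS' : (S : Subgroup G) ≤ centralizer ({d} : Set G) := fun x hx =>
    mem_cent.mpr (haby x (hS hx) d hdy)
  refine not_class_prime_pow hG (g := d) (fun e => hr.ne_one (by rw [← hdo, e, orderOf_one])) Nat.prime_two
    fun ℓ hl hdvd => ?_
  rcases hRS ℓ hl (hdvd.trans (index_dvd_card _)) with h | h | h
  · exact h
  · exact absurd (h ▸ hdvd) (not_dvd_index_of_sylow_le R hR)
  · exact absurd (h ▸ hdvd) (not_dvd_index_of_sylow_le S hS')

end CfsgLib.FiveOrbits
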