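import Mathlib
import Cfsg.Agent.Lib.PSolvable
import Cfsg.Agent.Lib.Basic

/-!
Solvable subgroups with an abelian Sylow subgroup: odd core times normaliser, and a counting form of Burnside's
transfer criterion.
-/

set_option autoImplicit false
set_option linter.unusedSectionVars false
set_option linter.style.haveILetI false

namespace CfsgLib.FiveOrbits

open Subgroup Cfsg

universe u

theorem split_group {K : Type u} [Group K] [Finite K] [Group.IsSolvable K] {p : ℕ} [hp : Fact p.Prime]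
    (P : Sylow p K) (hP : ∀ a ∈ (P : Subgroup K), ∀ b ∈ (P : Subgroup K), a * b = b * a) :
    (pPrimeCore p K ⊔ normalizer ((P : Subgroup K) : Set K) = ⊤) ∧
      centralizer ((P : Subgroup K) : Set K) ≤ pPrimeCore p K ⊔ (P : Subgroup K) := by
  set O := pPrimeCore p K with hO
  set f := QuotientGroup.mk' O with hf
  have hbot : pPrimeCore p (K ⧸ O) = ⊥ := CfsgLib.pPrimeCore_quotient_eq_bot p
  have hself : centralizer (pCore p (K ⧸ O) : Set (K ⧸ O)) ≤ pCore p (K ⧸ O) :=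
    CfsgLib.centralizer_pCore_le hp.out hbot
  let P' : Sylow p (K ⧸ O) := P.mapSurjective (f := f) (QuotientGroup.mk'_surjective O)
  have hQP : pCore p (K ⧸ O) ≤ (P' : Subgroup (K ⧸ O)) :=
    CfsgLib.pCore_le_sylow P'
  have hPQ : (P' : Subgroup (K ⧸ O)) = pCore p (K ⧸ O) := by
    refine le_antisymm ?_ hQP
    rintro _ ⟨a, ha, rfl⟩
    refine hself (mem_centralizer_iff.mpr fun y hy => ?_)
    obtain ⟨b, hb, rfl⟩ := hQP hy
    rw [← map_mul, ← map_mul, hP b hb a ha]
  have hmap : (P : Subgroup K).map f = pCore p (K ⧸ O) := hPQ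
  have hcomap : (pCore p (K ⧸ O)).comap f = O ⊔ (P : Subgroup K) := by
    rw [← hmap, comap_map_eq, hf, QuotientGroup.ker_mk', sup_comm]
  haveI hN : (O ⊔ (P : Subgroup K)).Normal := hcomap ▸ (inferInstance : ((pCore p (K ⧸ O)).comap f).Normal)
  refine ⟨?_, fun k hk => ?_⟩
  · have h1 := Sylow.normalizer_sup_eq_top' (N := O ⊔ (P : Subgroup K)) P le_sup_right
    refine eq_top_iff.mpr (h1 ▸ ?_)
    exact sup_le le_sup_right (sup_le le_sup_left (le_normalizer.trans le_sup_right))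
  · rw [← hcomap, mem_comap]
    refine hself (mem_centralizer_iff.mpr fun y hy => ?_)
    rw [← hmap] at hy
    obtain ⟨a, ha, rfl⟩ := hy
    rw [← map_mul, ← map_mul, mem_centralizer_iff.mp hk a ha]

/-- The same inside a subgroup of an ambient group. -/
theorem split_in {G : Type u} [Group G] [Finite G] {p : ℕ} [hp : Fact p.Prime] (K : Subgroup G)
    [Group.IsSolvable K] (S : Subgroup G) (hSK : S ≤ K) (hS : IsPGroup p S)
    (hmax : ∀ T : Subgroup G, T ≤ K → IsPGroup p T → S ≤ T → T = S)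
    (hab : ∀ a ∈ S, ∀ b ∈ S, a * b = b * a) :
    ∃ O : Subgroup G, O ≤ K ∧ (∀ k ∈ K, ∀ o ∈ O, k * o * k⁻¹ ∈ O) ∧ (∀ o ∈ O, ¬ p ∣ orderOf o) ∧
      (∀ k ∈ K, ∃ o ∈ O, ∃ n ∈ K, n ∈ normalizer (S : Set G) ∧ k = o * n) ∧
      (∀ k ∈ K, (∀ s ∈ S, k * s = s * k) → ∃ o ∈ O, ∃ s ∈ S, k = o * s) := by
  let P : Sylow p K := ⟨S.subgroupOf K, hS.of_equiv (subgroupOfEquivOfLe hSK).symm, fun {Q} hQ hle => by
    have h1 := hmax (Q.map K.subtype) (map_subtype_le Q) (hQ.map _) (fun x hx => ⟨⟨x, hSK hx⟩, hle hx, rfl⟩)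
    refine le_antisymm (fun x hx => ?_) hle
    rw [mem_subgroupOf, ← h1]
    exact ⟨x, hx, rfl⟩⟩
  have hPmem : ∀ a : K, a ∈ (P : Subgroup K) ↔ (a : G) ∈ S := fun a => mem_subgroupOf
  obtain ⟨h1, h2⟩ := split_group P fun a ha b hb => Subtype.ext (hab _ ((hPmem a).mp ha) _ ((hPmem b).mp hb))
  refine ⟨(pPrimeCore p K).map K.subtype, map_subtype_le _, ?_, ?_, ?_, ?_⟩
  · rintro k hk _ ⟨o, ho, rfl⟩
    exact ⟨⟨k, hk⟩ * o * ⟨k, hk⟩⁻¹, (inferInstance : (pPrimeCore p K).Normal).conj_mem o ho ⟨k, hk⟩, rfl⟩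
  · rintro _ ⟨o, ho, rfl⟩ hd
    refine CfsgLib.not_dvd_card_pPrimeCore hp.out (G := K) (hd.trans ?_)
    rw [show orderOf (K.subtype o) = orderOf o from orderOf_injective _ K.subtype_injective o]
    exact Subgroup.orderOf_dvd_natCard _ ho
  · intro k hk
    have : (⟨k, hk⟩ : K) ∈ pPrimeCore p K ⊔ normalizer ((P : Subgroup K) : Set K) := h1 ▸ mem_top _
    obtain ⟨o, ho, n, hn, he⟩ := mem_sup_of_normal_left.mp this
    refine ⟨o, ⟨o, ho, rfl⟩, n, n.2, ?_, (congrArg Subtype.val he).symm⟩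
    rw [mem_normalizer_iff]
    intro x
    constructor
    · intro hx
      exact (hPmem _).mp ((mem_normalizer_iff.mp hn ⟨x, hSK hx⟩).mp ((hPmem _).mpr hx))
    · intro hx
      have hxK : x ∈ K := by
        have := mul_mem (mul_mem (inv_mem n.2) (hSK hx)) n.2
        convert this using 1; group
      exact (hPmem _).mp ((mem_normalizer_iff.mp hn ⟨x, hxK⟩).mpr ((hPmem _).mpr hx))
  · intro k hk hc
    have h3 : (⟨k, hk⟩ : K) ∈ pPrimeCore p K ⊔ (P : Subgroup K) :=
      h2 (mem_centralizer_iff.mpr fun a ha => Subtype.ext (hc a ((hPmem a).mp ha)).symm)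
    obtain ⟨o, ho, s, hs, he⟩ := mem_sup_of_normal_left.mp h3
    exact ⟨o, ⟨o, ho, rfl⟩, s, (hPmem s).mp hs, (congrArg Subtype.val he).symm⟩

/-- An element of `O · S` of order prime to `p` lies in `O`. -/
theorem mem_of_coprime_order {G : Type u} [Group G] [Finite G] {p : ℕ} [hp : Fact p.Prime] {O S : Subgroup G}
    (hS : IsPGroup p S) (hO : ∀ o ∈ O, ¬ p ∣ orderOf o) (hn : ∀ s ∈ S, ∀ o ∈ O, s * o * s⁻¹ ∈ O) {o s : G}
    (ho : o ∈ O) (hs : s ∈ S) (h : ¬ p ∣ orderOf (o * s)) : o * s ∈ O := by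
  have key : ∀ n : ℕ, ∃ o' ∈ O, (o * s) ^ n = o' * s ^ n := by
    intro n
    induction n with
    | zero => exact ⟨1, one_mem O, by simp⟩
    | succ n ih =>
      obtain ⟨o', ho', he⟩ := ih
      refine ⟨o' * (s ^ n * o * (s ^ n)⁻¹), mul_mem ho' (hn _ (pow_mem hs n) o ho), ?_⟩
      rw [pow_succ, he, pow_succ]
      group
  set n := orderOf (o * s) with hn'
  obtain ⟨o', ho', he⟩ := key n
  rw [pow_orderOf_eq_one] at he
  have hsn : s ^ n ∈ O := by
    have : s ^ n = o'⁻¹ := eq_inv_of_mul_eq_one_right he.symm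
    exact this ▸ inv_mem ho'
  obtain ⟨a, ha⟩ := IsPGroup.iff_orderOf.mp hS ⟨s, hs⟩
  rw [Subgroup.orderOf_mk] at ha
  have h1 : orderOf (s ^ n) = orderOf s := by
    refine Nat.Coprime.orderOf_pow ?_
    rw [ha]
    exact Nat.Coprime.pow_left a ((hp.out.coprime_iff_not_dvd).mpr h)
  have h2 := hO _ hsn
  rw [h1, ha] at h2
  rcases Nat.eq_zero_or_pos a with rfl | ha0
  · rw [pow_zero, orderOf_eq_one_iff] at ha
    rw [ha, mul_one]; exact ho
  · exact absurd (dvd_pow_self p ha0.ne') h2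

/-- Burnside's transfer criterion: an abelian Sylow subgroup of a simple group is not self-normalising. -/
theorem exists_normalizer_notMem {G : Type u} [Group G] [Finite G] [IsSimpleGroup G] (hG : ¬ IsMulCommutative G)
    {p : ℕ} [hp : Fact p.Prime] (hd : p ∣ Nat.card G) (P : Sylow p G)
    (hP : ∀ a ∈ (P : Subgroup G), ∀ b ∈ (P : Subgroup G), a * b = b * a) :
    ∃ n ∈ normalizer ((P : Subgroup G) : Set G), n ∉ (P : Subgroup G) := by
  by_contra hcon
  push Not at hcon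
  have hle : normalizer ((P : Subgroup G) : Set G) ≤ centralizer ((P : Subgroup G) : Set G) := fun n hn =>
    mem_centralizer_iff.mpr fun a ha => hP a ha n (hcon n hn)
  have hc := MonoidHom.ker_transferSylow_isComplement' P hle
  have hne : (P : Subgroup G) ≠ ⊥ := fun e => by
    have := P.dvd_card_of_dvd_card hd
    rw [e, card_bot] at this
    exact hp.out.not_dvd_one this
  rcases Subgroup.Normal.eq_bot_or_eq_top
    (inferInstance : (MonoidHom.transferSylow P hle).ker.Normal) with h | h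
  · rw [h, isComplement'_bot_left] at hc
    exact hG ⟨⟨fun a b => hP a (hc ▸ mem_top a) b (hc ▸ mem_top b)⟩⟩
  · rw [h, isComplement'_top_left] at hc
    exact hne hc

end CfsgLib.FiveOrbits
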