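import Cfsg.Agent.Lib.FiveOrbits.Basic
import Cfsg.Agent.Lib.FiveOrbits.Split

/-!
Element orders one, two, two odd primes and twice the first of them: basic facts.
-/

set_option autoImplicit false
set_option linter.unusedSectionVars false

namespace CfsgLib.FiveOrbits

open Subgroup

universe u

/-- The configuration with element orders `1, 2, r, s, 2r`. -/
structure TwoR (G : Type u) [Group G] (r s : ℕ) : Prop where
  nonab : ¬ IsMulCommutative G
  conj : OrdConj G
  hr : r.Prime
  hs : s.Prime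
  hr2 : r ≠ 2
  hs2 : s ≠ 2
  hrs : r ≠ s
  orders : ∀ g : G, orderOf g = 1 ∨ orderOf g = 2 ∨ orderOf g = r ∨ orderOf g = s ∨ orderOf g = 2 * r
  exTwoR : ∃ g : G, orderOf g = 2 * r
  exS : ∃ g : G, orderOf g = s

variable {G : Type u} [Group G] [Finite G] {r s : ℕ}

theorem conj_eq_iff_mul (g a : G) : g * a * g⁻¹ = a ↔ g * a = a * g := mul_inv_eq_iff_eq_mul

/-- A Sylow subgroup normalising another coincides with it. -/
theorem sylow_eq_of_le_normalizer {p : ℕ} [Fact p.Prime] (P Q : Sylow p G)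
    (h : (P : Subgroup G) ≤ normalizer ((Q : Subgroup G) : Set G)) : P = Q := by
  have h1 : Subgroup.normalizer ((Q : Subgroup G) : Set G) ⊓ (P : Subgroup G) = (P : Subgroup G) := inf_eq_right.mpr h
  have h2 := Q.2
  refine Sylow.ext (P.3 Q.2 ?_).symm
  have h3 : IsPGroup p ((P : Subgroup G) ⊔ (Q : Subgroup G) : Subgroup G) :=
    IsPGroup.to_sup_of_normal_right' P.2 Q.2 h
  rw [← Q.3 h3 le_sup_right]
  exact le_sup_left

namespace TwoR

variable (c : TwoR G r s)

include c

theorem not_two_s (g : G) : orderOf g ≠ 2 * s := by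
  intro e
  have h1 := c.hs.two_le
  have h2 := c.hr.two_le
  have h3 : s ∣ orderOf g := e ▸ dvd_mul_left s 2
  have h4 := c.hrs
  have h5 := c.hs2
  rcases c.orders g with h | h | h | h | h <;> rw [e] at h
  · omega
  · omega
  · exact Nat.not_even_iff_odd.mpr (c.hr.odd_of_ne_two c.hr2) (h ▸ even_two_mul s)
  · omega
  · omega

theorem not_r_s (g : G) : orderOf g ≠ r * s := by
  intro e
  have h2 := c.hr.two_le
  have h1 := c.hs.two_le
  rcases c.orders g with h | h | h | h | h <;> rw [e] at h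
  · nlinarith
  · nlinarith
  · nlinarith
  · nlinarith
  · have : s = 2 := by
      have := Nat.eq_of_mul_eq_mul_left c.hr.pos (h.trans (mul_comm 2 r))
      exact this
    exact c.hs2 this

theorem not_commute_s {a k : G} (ha : orderOf a = 2 ∨ orderOf a = r) (hk : orderOf k = s) (hc : Commute a k) :
    False := by
  rcases ha with ha | ha
  · have := hc.orderOf_mul_eq_mul_orderOf_of_coprime
      (by rw [ha, hk]; exact (Nat.coprime_primes Nat.prime_two c.hs).mpr c.hs2.symm)
    rw [ha, hk] at this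
    exact c.not_two_s _ this
  · have := hc.orderOf_mul_eq_mul_orderOf_of_coprime
      (by rw [ha, hk]; exact (Nat.coprime_primes c.hr c.hs).mpr c.hrs)
    rw [ha, hk] at this
    exact c.not_r_s _ this

theorem s_of_dvd {k : G} (h : s ∣ orderOf k) : orderOf k = s := by
  have h1 := c.hs.two_le
  have := c.hr.two_le
  rcases c.orders k with e | e | e | e | e
  · rw [e] at h; exact absurd h c.hs.not_dvd_one
  · rw [e] at h; exact absurd ((Nat.prime_dvd_prime_iff_eq c.hs Nat.prime_two).mp h) c.hs2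
  · rw [e] at h; exact absurd ((Nat.prime_dvd_prime_iff_eq c.hs c.hr).mp h) c.hrs.symm
  · exact e
  · rw [e] at h
    rcases c.hs.dvd_mul.mp h with h' | h'
    · exact absurd ((Nat.prime_dvd_prime_iff_eq c.hs Nat.prime_two).mp h') c.hs2
    · exact absurd ((Nat.prime_dvd_prime_iff_eq c.hs c.hr).mp h') c.hrs.symm

theorem not_s_dvd_cent {a : G} (ha : orderOf a = 2 ∨ orderOf a = r) {k : G} (hk : k * a = a * k) :
    ¬ s ∣ orderOf k := fun h => c.not_commute_s ha (c.s_of_dvd h) (show Commute a k from hk.symm)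

theorem prime_cases {ℓ : ℕ} (hl : ℓ.Prime) {k : G} (h : ℓ ∣ orderOf k) : ℓ = 2 ∨ ℓ = r ∨ ℓ = s := by
  rcases c.orders k with e | e | e | e | e <;> rw [e] at h
  · exact absurd h hl.not_dvd_one
  · exact Or.inl ((Nat.prime_dvd_prime_iff_eq hl Nat.prime_two).mp h)
  · exact Or.inr (Or.inl ((Nat.prime_dvd_prime_iff_eq hl c.hr).mp h))
  · exact Or.inr (Or.inr ((Nat.prime_dvd_prime_iff_eq hl c.hs).mp h))
  · rcases hl.dvd_mul.mp h with h' | h'
    · exact Or.inl ((Nat.prime_dvd_prime_iff_eq hl Nat.prime_two).mp h')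
    · exact Or.inr (Or.inl ((Nat.prime_dvd_prime_iff_eq hl c.hr).mp h'))

theorem card_cases {K : Subgroup G} {ℓ : ℕ} (hl : ℓ.Prime) (h : ℓ ∣ Nat.card K) : ℓ = 2 ∨ ℓ = r ∨ ℓ = s := by
  obtain ⟨k, -, hk⟩ := prime_of_dvd_card hl h
  exact c.prime_cases hl hk.symm.dvd

theorem group_card_cases {ℓ : ℕ} (hl : ℓ.Prime) (h : ℓ ∣ Nat.card G) : ℓ = 2 ∨ ℓ = r ∨ ℓ = s := by
  haveI := Fact.mk hl
  obtain ⟨k, hk⟩ := exists_prime_orderOf_dvd_card' (G := G) ℓ h
  exact c.prime_cases hl hk.symm.dvd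

theorem cent_solvable {a : G} (ha : orderOf a = 2 ∨ orderOf a = r) :
    Group.IsSolvable (centralizer ({a} : Set G)) := by
  set K := centralizer ({a} : Set G)
  refine CfsgLib.CharTheory.isSolvable_of_card_two_primes (p := 2) (q := r) Nat.prime_two c.hr
    (a := (Nat.card K).factorization 2) (b := (Nat.card K).factorization r) ?_
  have hne := (Nat.card_pos (α := K)).ne'
  refine Nat.eq_of_factorization_eq hne (mul_ne_zero (by simp) (pow_ne_zero _ c.hr.ne_zero)) fun ℓ => ?_
  rw [Nat.factorization_mul (by simp) (pow_ne_zero _ c.hr.ne_zero), Nat.prime_two.factorization_pow,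
    c.hr.factorization_pow, Finsupp.add_apply, Finsupp.single_apply, Finsupp.single_apply]
  by_cases hl : ℓ.Prime ∧ ℓ ∣ Nat.card K
  · obtain ⟨k, hk, hko⟩ := prime_of_dvd_card hl.1 hl.2
    rcases c.prime_cases hl.1 hko.symm.dvd with e | e | e
    · subst e; simp [c.hr2]
    · subst e; simp [c.hr2.symm]
    · subst e
      exact absurd hko.symm.dvd (c.not_s_dvd_cent ha (mem_cent.mp hk))
  · have : (Nat.card K).factorization ℓ = 0 := by
      rw [Nat.factorization_eq_zero_iff]
      tauto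
    rw [this]
    split_ifs with h1 h2 <;> subst_vars <;> simp_all

theorem two_elt_sq {k : G} {n : ℕ} (h : orderOf k = 2 ^ n) : k * k = 1 := by
  suffices orderOf k ∣ 2 by rw [← pow_two]; exact orderOf_dvd_iff_pow_eq_one.mp this
  have hev : ∀ ℓ : ℕ, ℓ.Prime → ℓ ∣ orderOf k → ℓ = 2 := fun ℓ hl hd =>
    (Nat.prime_dvd_prime_iff_eq hl Nat.prime_two).mp (hl.dvd_of_dvd_pow (h ▸ hd))
  rcases c.orders k with e | e | e | e | e
  · rw [e]; exact one_dvd _
  · rw [e]
  · exact absurd (hev r c.hr e.symm.dvd) c.hr2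
  · exact absurd (hev s c.hs e.symm.dvd) c.hs2
  · exact absurd (hev r c.hr (e ▸ dvd_mul_left r 2)) c.hr2

theorem sylow_sq (S : Sylow 2 G) {k : G} (hk : k ∈ (S : Subgroup G)) : k * k = 1 := by
  obtain ⟨n, hn⟩ := IsPGroup.iff_orderOf.mp S.2 ⟨k, hk⟩
  exact c.two_elt_sq (n := n) (by rw [← hn, Subgroup.orderOf_mk])

theorem sylow_ord (S : Sylow 2 G) {k : G} (hk : k ∈ (S : Subgroup G)) (h1 : k ≠ 1) : orderOf k = 2 :=
  CfsgLib.Involutions.orderOf_eq_two_iff'.mpr ⟨c.sylow_sq S hk, h1⟩

theorem sylow_comm (S : Sylow 2 G) : ∀ a ∈ (S : Subgroup G), ∀ b ∈ (S : Subgroup G), a * b = b * a := by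
  intro a ha b hb
  have h1 := c.sylow_sq S (mul_mem ha hb)
  calc a * b = (a * b)⁻¹ := (inv_eq_of_mul_eq_one_right h1).symm
    _ = b⁻¹ * a⁻¹ := mul_inv_rev a b
    _ = b * a := by rw [inv_eq_of_mul_eq_one_right (c.sylow_sq S ha), inv_eq_of_mul_eq_one_right (c.sylow_sq S hb)]

theorem sylow_le_cent (S : Sylow 2 G) {t : G} (ht : t ∈ (S : Subgroup G)) :
    (S : Subgroup G) ≤ centralizer ({t} : Set G) := fun x hx => mem_cent.mpr (c.sylow_comm S x hx t ht)

/-- The two-part of an order is at most two. -/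
theorem two_part {k : G} (h : 2 ∣ orderOf k) : orderOf k = 2 ∨ orderOf k = 2 * r := by
  rcases c.orders k with e | e | e | e | e
  · rw [e] at h; omega
  · exact Or.inl e
  · exact absurd ((Nat.prime_dvd_prime_iff_eq Nat.prime_two c.hr).mp (e ▸ h)) c.hr2.symm
  · exact absurd ((Nat.prime_dvd_prime_iff_eq Nat.prime_two c.hs).mp (e ▸ h)) c.hs2.symm
  · exact Or.inr e

theorem exists_r : ∃ g : G, orderOf g = r := by
  obtain ⟨g, hg⟩ := c.exTwoR
  exact (exists_orderOf_of_dvd (g := g) (hg ▸ dvd_mul_left r 2)).imp' (g ^ ·) fun _ h => h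

/-- Every element of order `r` commutes with an involution. -/
theorem exists_invol_commute {d : G} (hd : orderOf d = r) : ∃ v : G, orderOf v = 2 ∧ v * d = d * v := by
  obtain ⟨g, hg⟩ := c.exTwoR
  obtain ⟨i, hi⟩ := exists_orderOf_of_dvd (g := g) (m := r) (hg ▸ dvd_mul_left r 2)
  obtain ⟨j, hj⟩ := exists_orderOf_of_dvd (g := g) (m := 2) (hg ▸ dvd_mul_right 2 r)
  obtain ⟨α, hα⟩ := c.conj (g ^ i) d (hi.trans hd.symm)
  refine ⟨α (g ^ j), by rw [MulEquiv.orderOf_eq, hj], ?_⟩
  rw [← hα, ← map_mul, ← map_mul, ← pow_add, ← pow_add, add_comm]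

theorem exists_sylow_mem {v : G} (hv : orderOf v = 2) : ∃ S : Sylow 2 G, v ∈ (S : Subgroup G) := by
  obtain ⟨S, hS⟩ := (IsPGroup.of_card (n := 1) (p := 2) (G := zpowers v)
    (by rw [Nat.card_zpowers, hv, pow_one])).exists_le_sylow
  exact ⟨S, hS (mem_zpowers v)⟩

theorem two_dvd : 2 ∣ Nat.card G := by
  obtain ⟨g, hg⟩ := c.exTwoR
  exact (hg ▸ dvd_mul_right 2 r : 2 ∣ orderOf g).trans (orderOf_dvd_natCard g)

/-- Elements centralising a full Sylow two-subgroup lie in it. -/
theorem cent_sylow [IsSimpleGroup G] (S : Sylow 2 G) {k : G} (hk : ∀ a ∈ (S : Subgroup G), k * a = a * k) :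
    k ∈ (S : Subgroup G) := by
  haveI : Fact (Nat.Prime 2) := ⟨Nat.prime_two⟩
  have hne : (S : Subgroup G) ≠ ⊥ := fun e => by
    have := S.dvd_card_of_dvd_card c.two_dvd
    rw [e, card_bot] at this
    exact Nat.prime_two.not_dvd_one this
  obtain ⟨t, htS, ht1⟩ := (S : Subgroup G).bot_or_exists_ne_one.resolve_left hne
  have htwo := c.sylow_ord S htS ht1
  by_cases hodd : r ∣ orderOf k
  · exfalso
    obtain ⟨i, hi⟩ := exists_orderOf_of_dvd hodd
    haveI := Fact.mk c.hr
    obtain ⟨R, hR, -⟩ := sylow_card_dvd_cent c.conj hi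
    refine not_class_prime_pow c.nonab (g := k ^ i) (fun e => c.hr.ne_one (by rw [← hi, e, orderOf_one]))
      c.hs fun ℓ hl hd => ?_
    rcases c.group_card_cases hl (hd.trans (index_dvd_card _)) with e | e | e
    · refine absurd (e ▸ hd) (not_dvd_index_of_sylow_le S fun a ha => mem_cent.mpr ?_)
      exact ((show Commute k a from hk a ha).pow_left i).symm.eq
    · exact absurd (e ▸ hd) (not_dvd_index_of_sylow_le R hR)
    · exact e
  · have hns : ¬ s ∣ orderOf k := c.not_s_dvd_cent (Or.inl htwo) (hk t htS)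
    have hp : IsPGroup 2 (zpowers k) := by
      refine IsPGroup.of_card (n := (orderOf k).factorization 2) ?_
      rw [Nat.card_zpowers]
      rcases c.orders k with e | e | e | e | e
      · rw [e]; simp
      · rw [e, Nat.prime_two.factorization_self, pow_one]
      · exact absurd e.symm.dvd hodd
      · exact absurd e.symm.dvd hns
      · exact absurd (e ▸ dvd_mul_left r 2) hodd
    have h := IsPGroup.to_sup_of_normal_right' hp S.2 (by
      rw [zpowers_le, mem_normalizer_iff]
      intro a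
      constructor
      · intro ha
        rwa [(conj_eq_iff_mul k a).mpr (hk a ha)]
      · intro ha
        have h1 := hk _ ha
        have h2 : k * a * k⁻¹ = a := by
          have h3 : k * (k * a * k⁻¹) * k⁻¹ = k * a * k⁻¹ := (conj_eq_iff_mul k _).mpr h1
          calc k * a * k⁻¹ = k⁻¹ * (k * (k * a * k⁻¹) * k⁻¹) * k := by group
            _ = k⁻¹ * (k * a * k⁻¹) * k := by rw [h3]
            _ = a := by group
        rwa [h2] at ha)
    rw [← S.3 h le_sup_right]
    exact mem_sup_left (mem_zpowers k)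

/-- Odd elements do not fill a full Sylow centraliser: an involution centraliser omits part of the `r`-part. -/
theorem r_dvd_index_cent [IsSimpleGroup G] (S : Sylow 2 G) {t : G} (ht : t ∈ (S : Subgroup G)) (ht1 : t ≠ 1) :
    r ∣ (centralizer ({t} : Set G)).index := by
  by_contra hnd
  haveI : Fact (Nat.Prime 2) := ⟨Nat.prime_two⟩
  refine not_class_prime_pow c.nonab (g := t) ht1 c.hs fun ℓ hl hd => ?_
  rcases c.group_card_cases hl (hd.trans (index_dvd_card _)) with e | e | e
  · exact absurd (e ▸ hd) (not_dvd_index_of_sylow_le S (c.sylow_le_cent S ht))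
  · exact absurd (e ▸ hd) hnd
  · exact e

end TwoR

end CfsgLib.FiveOrbits
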